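import Groth.Agent.Lib.GrpSch.Basic
import Groth.Agent.Lib.GrpSch.BaseChange
import Groth.Agent.Lib.GrpQ.MonoClosed
import Groth.Agent.Lib.AlgSpMor.Cancel
import Mathlib.AlgebraicGeometry.Morphisms.FinitePresentation
import Mathlib.AlgebraicGeometry.AlgClosed.Basic

/-!
Points with values in algebraically closed fields and constructible sets.
-/

set_option autoImplicit false

universe u

open CategoryTheory Limits MonoidalCategory CartesianMonoidalCategory MonObj AlgebraicGeometry

namespace Groth.Agent.Lib.Solv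

variable {S : Scheme.{u}} {Ω : Type u} [Field Ω] {t : Spec (CommRingCat.of Ω) ⟶ S}

/-- The point of a scheme under a field-valued point. -/
noncomputable def pt {X : Over S} (g : Over.mk t ⟶ X) : X.left := g.left (IsLocalRing.closedPoint Ω)

theorem pt_comp {X Y : Over S} (g : Over.mk t ⟶ X) (φ : X ⟶ Y) : pt (g ≫ φ) = φ.left (pt g) := rfl

theorem hom_pt {X : Over S} (g : Over.mk t ⟶ X) : X.hom (pt g) = t (IsLocalRing.closedPoint Ω) :=
  congrArg (fun φ : Spec (CommRingCat.of Ω) ⟶ S => φ (IsLocalRing.closedPoint Ω)) (Over.w g)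

theorem exists_closedPoint {X : Scheme.{u}} [IsNoetherian X] [JacobsonSpace X] {D : Set X}
    (hD : Topology.IsConstructible D) (hne : D.Nonempty) : ∃ x ∈ D, IsClosed ({x} : Set X) := by
  have : SpectralSpace X := ⟨⟩
  obtain ⟨U, hU, hne', hUD⟩ := GrpQ.MonoClosed.exists_open_inter_closure_subset hD hne
  obtain ⟨x, hx, hxc⟩ := nonempty_inter_closedPoints hne' (hU.isLocallyClosed.inter isClosed_closure.isLocallyClosed)
  exact ⟨x, hUD hx, hxc⟩

theorem isLocallyConstructible_compl {X : Type*} [TopologicalSpace X] {D : Set X}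
    (hD : Topology.IsLocallyConstructible D) : Topology.IsLocallyConstructible Dᶜ := fun x => by
  obtain ⟨U, hxU, hU, H⟩ := hD x
  exact ⟨U, hxU, hU, H.compl⟩

theorem isLocallyConstructible_preimage {X Y : Scheme.{u}} (f : X ⟶ Y) {D : Set Y}
    (hD : Topology.IsLocallyConstructible D) : Topology.IsLocallyConstructible (f ⁻¹' D) := by
  refine Topology.IsLocallyConstructible.of_isOpenCover (U := fun U : Y.affineOpens => f ⁻¹ᵁ U.1) ?_ fun U => ?_
  · refine TopologicalSpace.IsOpenCover.mk (eq_top_iff.2 fun x _ => ?_)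
    obtain ⟨U, hU, hxU, -⟩ := exists_isAffineOpen_mem_and_subset (U := ⊤) (x := f x) trivial
    exact TopologicalSpace.Opens.mem_iSup.2 ⟨⟨U, hU⟩, hxU⟩
  · have : IsAffine (U.1 : Scheme.{u}) := U.2
    have h' : Topology.IsLocallyConstructible (U.1.ι ⁻¹' D) :=
      hD.preimage_of_isOpenEmbedding U.1.ι.isOpenEmbedding
    have h := ((f ∣_ U.1).isConstructible_preimage h'.isConstructible).isLocallyConstructible
    have e : (f ∣_ U.1) ⁻¹' (U.1.ι ⁻¹' D) = (f ⁻¹ᵁ U.1).ι ⁻¹' (f ⁻¹' D) := by
      rw [← Set.preimage_comp, ← Set.preimage_comp, ← TopCat.coe_comp, ← TopCat.coe_comp,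
        ← Scheme.Hom.comp_base, ← Scheme.Hom.comp_base, morphismRestrict_ι]
    exact e ▸ h

variable (t) [IsAlgClosed Ω]

/-- A constructible set with a point over the given point of the base contains a point with values in `Ω`. -/
theorem exists_pt_mem (X : Over S) [LocallyOfFiniteType X.hom] [QuasiCompact X.hom] {D : Set X.left}
    (hD : Topology.IsLocallyConstructible D) {z : X.left} (hz : z ∈ D)
    (hzs : X.hom z = t (IsLocalRing.closedPoint Ω)) : ∃ g : Over.mk t ⟶ X, pt g ∈ D := by
  let P := pullback X.hom t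
  let a : P ⟶ X.left := pullback.fst _ _
  let b : P ⟶ Spec (CommRingCat.of Ω) := pullback.snd _ _
  have : LocallyOfFiniteType b := inferInstance
  have : QuasiCompact b := inferInstance
  have : IsLocallyNoetherian P := LocallyOfFiniteType.isLocallyNoetherian b
  have : CompactSpace P := QuasiCompact.compactSpace_of_compactSpace b
  have : IsNoetherian P := {}
  have : JacobsonSpace P := LocallyOfFiniteType.jacobsonSpace b
  obtain ⟨p, hp, -⟩ := Scheme.Pullback.exists_preimage_pullback (f := X.hom) (g := t) z (IsLocalRing.closedPoint Ω) hzs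
  have hc : Topology.IsConstructible (a ⁻¹' D) := (isLocallyConstructible_preimage a hD).isConstructible
  obtain ⟨q, hq, hqc⟩ := exists_closedPoint hc ⟨p, show a p ∈ D from hp.symm ▸ hz⟩
  refine ⟨Over.homMk (pointOfClosedPoint b q hqc ≫ a) ?_, ?_⟩
  · show (pointOfClosedPoint b q hqc ≫ a) ≫ X.hom = t
    rw [Category.assoc, pullback.condition, pointOfClosedPoint_comp_assoc]
  · show a ((pointOfClosedPoint b q hqc) _) ∈ D
    exact (pointOfClosedPoint_apply b q hqc _).symm ▸ hq

variable {t}

/-- A point lying in the image of a constructible set lifts to that set. -/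
theorem exists_lift_pt {W X : Over S} (w : W ⟶ X) [LocallyOfFiniteType w.left] [QuasiCompact w.left]
    {D : Set W.left} (hD : Topology.IsLocallyConstructible D) (g : Over.mk t ⟶ X) (hg : pt g ∈ w.left '' D) :
    ∃ l : Over.mk t ⟶ W, pt l ∈ D ∧ l ≫ w = g := by
  obtain ⟨z, hz, hzg⟩ := hg
  let W' : Over X.left := Over.mk w.left
  have : LocallyOfFiniteType W'.hom := ‹LocallyOfFiniteType w.left›
  have : QuasiCompact W'.hom := ‹QuasiCompact w.left›
  obtain ⟨l, hl⟩ := exists_pt_mem g.left W' (D := D) hD hz hzg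
  have hlw : l.left ≫ w.left = g.left := Over.w l
  refine ⟨Over.homMk l.left ?_, hl, Over.OverMorphism.ext hlw⟩
  show l.left ≫ W.hom = t
  rw [← Over.w w, reassoc_of% hlw]
  exact Over.w g

section Ops

variable {G : Over S} [GrpObj G]

/-- The unit section. -/
noncomputable abbrev unitSec (G : Over S) [GrpObj G] : 𝟙_ (Over S) ⟶ G := 1

omit [GrpObj G] in
theorem left_props {W : Over S} (w : W ⟶ G) [LocallyOfFinitePresentation W.hom] [QuasiCompact W.hom]
    [LocallyOfFinitePresentation G.hom] [QuasiSeparated G.hom] :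
    LocallyOfFinitePresentation w.left ∧ QuasiCompact w.left := by
  have : LocallyOfFinitePresentation (w.left ≫ G.hom) := by rw [Over.w]; infer_instance
  have : QuasiCompact (w.left ≫ G.hom) := by rw [Over.w]; infer_instance
  exact ⟨AlgSpMor.Cancel.locallyOfFinitePresentation_of_comp (g := G.hom) ‹_› inferInstance,
    QuasiCompact.of_comp w.left G.hom⟩

variable [LocallyOfFinitePresentation G.hom] [QuasiCompact G.hom] [QuasiSeparated G.hom]

omit [GrpObj G] [QuasiCompact G.hom] in
theorem image_props {W : Over S} (w : W ⟶ G) [LocallyOfFinitePresentation W.hom] [QuasiCompact W.hom]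
    {D : Set W.left} (hD : Topology.IsLocallyConstructible D) :
    Topology.IsLocallyConstructible (w.left '' D) := by
  obtain ⟨h1, h2⟩ := left_props w
  exact w.left.isLocallyConstructible_image hD

theorem isLocallyConstructible_range_unit : Topology.IsLocallyConstructible (Set.range (unitSec G).left) := by
  have : LocallyOfFinitePresentation (𝟙_ (Over S)).hom := inferInstanceAs (LocallyOfFinitePresentation (𝟙 S))
  have : QuasiCompact (𝟙_ (Over S)).hom := inferInstanceAs (QuasiCompact (𝟙 S))
  rw [← Set.image_univ]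
  exact image_props (unitSec G) Topology.IsLocallyConstructible.univ

/-- A point is the unit exactly when it lies in the unit section. -/
theorem pt_mem_unit_iff (g : Over.mk t ⟶ G) : pt g ∈ Set.range (unitSec G).left ↔ g = 1 := by
  constructor
  · intro h
    have : LocallyOfFinitePresentation (𝟙_ (Over S)).hom := inferInstanceAs (LocallyOfFinitePresentation (𝟙 S))
    have : QuasiCompact (𝟙_ (Over S)).hom := inferInstanceAs (QuasiCompact (𝟙 S))
    obtain ⟨h1, h2⟩ := left_props (unitSec G)
    rw [← Set.image_univ] at h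
    obtain ⟨l, -, hl⟩ := exists_lift_pt (unitSec G) Topology.IsLocallyConstructible.univ g h
    rw [← hl, MonObj.comp_one]
  · rintro rfl
    refine ⟨pt (toUnit (Over.mk t)), ?_⟩
    rw [← pt_comp, MonObj.comp_one]

omit [GrpObj G] in
theorem tensor_props {W W' : Over S} [LocallyOfFinitePresentation W.hom] [QuasiCompact W.hom]
    (h1 : LocallyOfFinitePresentation W'.hom) (h2 : QuasiCompact W'.hom) :
    LocallyOfFinitePresentation (W ⊗ W').hom ∧ QuasiCompact (W ⊗ W').hom := by
  have := GrpSch.fst_left_of (P := @LocallyOfFinitePresentation) W h1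
  have := GrpSch.fst_left_of (P := @QuasiCompact) W h2
  rw [← Over.w (fst W W')]
  exact ⟨inferInstance, inferInstance⟩

/-- Binary operations send constructible sets to constructible sets. -/
theorem exists_op (φ : G ⊗ G ⟶ G) {D E : Set G.left} (hD : Topology.IsLocallyConstructible D)
    (hE : Topology.IsLocallyConstructible E) :
    ∃ R : Set G.left, Topology.IsLocallyConstructible R ∧
      ∀ (Ω : Type u) [Field Ω] [IsAlgClosed Ω] (t : Spec (CommRingCat.of Ω) ⟶ S),
        {g : Over.mk t ⟶ G | pt g ∈ R} =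
          Set.image2 (fun a b => lift a b ≫ φ) {g : Over.mk t ⟶ G | pt g ∈ D} {g : Over.mk t ⟶ G | pt g ∈ E} := by
  obtain ⟨_, _⟩ := tensor_props (W := G) (W' := G) inferInstance inferInstance
  obtain ⟨_, _⟩ := left_props φ
  let D' : Set (G ⊗ G).left := (fst G G).left ⁻¹' D ∩ (snd G G).left ⁻¹' E
  have hD' : Topology.IsLocallyConstructible D' :=
    (isLocallyConstructible_preimage _ hD).inter (isLocallyConstructible_preimage _ hE)
  refine ⟨φ.left '' D', image_props φ hD', fun Ω _ _ t => Set.ext fun g => ⟨fun hg => ?_, ?_⟩⟩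
  · obtain ⟨l, hl, hlg⟩ := exists_lift_pt φ hD' g hg
    refine ⟨l ≫ fst G G, hl.1, l ≫ snd G G, hl.2, ?_⟩
    show lift (l ≫ fst G G) (l ≫ snd G G) ≫ φ = g
    rw [← comp_lift, lift_fst_snd, Category.comp_id, hlg]
  · rintro ⟨a, ha, b, hb, rfl⟩
    refine ⟨pt (lift a b), ⟨?_, ?_⟩, (pt_comp _ φ).symm⟩
    · show (fst G G).left (pt (lift a b)) ∈ D
      rw [← pt_comp, lift_fst]; exact ha
    · show (snd G G).left (pt (lift a b)) ∈ E
      rw [← pt_comp, lift_snd]; exact hb

end Ops

end Groth.Agent.Lib.Solv
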