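import Groth.Agent.Lib.Solv.Abstract
import Groth.Agent.Lib.GenSub.Words
import Groth.Agent.Lib.GrpQ.MonoClosed
import Groth.Agent.Lib.VarDim.Basic
import Groth.Agent.Lib.VarDim.Fibre
import Groth.Agent.Lib.Devissage.Dim
import Groth.Agent.H75.RedSub
import Groth.Agent.H75.RedKer

/-!
The rational points of an algebraic group over an algebraically closed field, with the induced topology.
-/

set_option autoImplicit false

universe u

open CategoryTheory Limits MonoidalCategory CartesianMonoidalCategory MonObj AlgebraicGeometry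
open scoped commutatorElement Pointwise

namespace Groth.Agent.Lib.Solv

variable {k : Type u} [Field k] (G : Over (Spec (CommRingCat.of k)))

/-- The rational points. -/
abbrev Pts : Type u := 𝟙_ (Over (Spec (CommRingCat.of k))) ⟶ G

/-- The point underlying a rational point. -/
noncomputable def ptMap (g : Pts G) : G.left := g.left (IsLocalRing.closedPoint k)

/-- The topology induced on rational points. -/
@[reducible] noncomputable def ptTop : TopologicalSpace (Pts G) := TopologicalSpace.induced (ptMap G) inferInstance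

theorem ptMap_comp {H : Over (Spec (CommRingCat.of k))} (g : Pts G) (φ : G ⟶ H) :
    ptMap H (g ≫ φ) = φ.left (ptMap G g) := rfl

theorem continuous_comp (φ : G ⟶ G) : @Continuous _ _ (ptTop G) (ptTop G) (fun g : Pts G => g ≫ φ) := by
  letI := ptTop G
  exact continuous_induced_rng.2 (φ.left.continuous.comp continuous_induced_dom)

variable [GrpObj G]

theorem comp_const (a : Pts G) (t : Pts G) : t ≫ toUnit G ≫ a = a := by
  rw [← Category.assoc, toUnit_unique (t ≫ toUnit G) (𝟙 _), Category.id_comp]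

/-- The points satisfy the continuity axioms. -/
theorem zar : @Zar (Pts G) _ (ptTop G) := by
  letI := ptTop G
  refine ⟨fun a => ?_, fun a => ?_, ?_, fun b => ?_, fun a => ?_⟩
  · convert continuous_comp G ((toUnit G ≫ a) * 𝟙 G) using 2 with t
    rw [MonObj.comp_mul, comp_const, Category.comp_id]
  · convert continuous_comp G (𝟙 G * (toUnit G ≫ a)) using 2 with t
    rw [MonObj.comp_mul, comp_const, Category.comp_id]
  · convert continuous_comp G (𝟙 G)⁻¹ using 2 with t
    rw [GrpObj.comp_inv, Category.comp_id]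
  · convert continuous_comp G ⁅𝟙 G, toUnit G ≫ b⁆ using 2 with t
    simp [commutatorElement_def, MonObj.comp_mul, GrpObj.comp_inv, comp_const]
  · convert continuous_comp G ⁅toUnit G ≫ a, 𝟙 G⁆ using 2 with t
    simp [commutatorElement_def, MonObj.comp_mul, GrpObj.comp_inv, comp_const]

/-- Sets of rational points coming from schemes of finite type. -/
def IsImg (P : Set (Pts G)) : Prop :=
  ∃ (W : Over (Spec (CommRingCat.of k))) (q : W ⟶ G), LocallyOfFiniteType W.hom ∧ QuasiCompact W.hom ∧
    P = Set.range fun t : Pts W => t ≫ q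

omit [GrpObj G] in
theorem prod_props {W W' : Over (Spec (CommRingCat.of k))} (h1 : LocallyOfFiniteType W.hom) (h2 : QuasiCompact W.hom)
    (h1' : LocallyOfFiniteType W'.hom) (h2' : QuasiCompact W'.hom) :
    LocallyOfFiniteType (W ⊗ W').hom ∧ QuasiCompact (W ⊗ W').hom := by
  have := GrpSch.fst_left_of (P := @LocallyOfFiniteType) W h1'
  have := GrpSch.fst_left_of (P := @QuasiCompact) W h2'
  rw [← Over.w (fst W W')]
  exact ⟨inferInstance, inferInstance⟩

variable [IsAlgClosed k] [LocallyOfFiniteType G.hom] [QuasiCompact G.hom]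

omit [GrpObj G] [IsAlgClosed k] [LocallyOfFiniteType G.hom] [QuasiCompact G.hom] in
theorem compactSpace_left (W : Over (Spec (CommRingCat.of k))) [QuasiCompact W.hom] : CompactSpace W.left :=
  QuasiCompact.compactSpace_of_compactSpace W.hom

omit [GrpObj G] [IsAlgClosed k] in
theorem isNoetherian_left : IsNoetherian G.left := by
  have := LocallyOfFiniteType.isLocallyNoetherian G.hom
  have := compactSpace_left G
  exact {}

omit [GrpObj G] [QuasiCompact G.hom] in
theorem exists_pt_of_isLocallyClosed {s : Set G.left} (hs : IsLocallyClosed s) (hne : s.Nonempty) :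
    ∃ g : Pts G, ptMap G g ∈ s := by
  have : JacobsonSpace G.left := LocallyOfFiniteType.jacobsonSpace G.hom
  obtain ⟨x, hx, hxc⟩ := nonempty_inter_closedPoints hne hs
  refine ⟨Over.homMk (pointOfClosedPoint G.hom x hxc) (pointOfClosedPoint_comp _ _ _), ?_⟩
  show (pointOfClosedPoint G.hom x hxc) _ ∈ s
  exact (pointOfClosedPoint_apply G.hom x hxc _).symm ▸ hx

/-- The class of images. -/
noncomputable def imgClass : @ImgClass (Pts G) _ (ptTop G) :=
  letI := ptTop G
  { Img := IsImg G
    of_closed := fun s hs => by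
      obtain ⟨F, hF, rfl⟩ := isClosed_induced_iff.1 hs
      let I := Scheme.IdealSheafData.vanishingIdeal (⟨F, hF⟩ : TopologicalSpace.Closeds G.left)
      let W : Over (Spec (CommRingCat.of k)) := Over.mk (I.subschemeι ≫ G.hom)
      let q : W ⟶ G := Over.homMk I.subschemeι rfl
      have hr : Set.range I.subschemeι = F := by
        rw [Scheme.IdealSheafData.range_subschemeι, Scheme.IdealSheafData.coe_support_vanishingIdeal]; rfl
      refine ⟨W, q, inferInstanceAs (LocallyOfFiniteType (I.subschemeι ≫ G.hom)),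
        inferInstanceAs (QuasiCompact (I.subschemeι ≫ G.hom)), Set.ext fun g => ⟨fun hg => ?_, ?_⟩⟩
      · have : IsReduced (𝟙_ (Over (Spec (CommRingCat.of k)))).left := inferInstanceAs (IsReduced (Spec _))
        obtain ⟨l, hl⟩ := H75.RedKer.exists_lift g.left I.subschemeι (by
          rintro _ ⟨p, rfl⟩
          rw [hr, show p = IsLocalRing.closedPoint k from Subsingleton.elim (α := PrimeSpectrum k) _ _]
          exact hg)
        exact ⟨Over.homMk l (by show l ≫ I.subschemeι ≫ G.hom = _; rw [reassoc_of% hl, Over.w g]),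
          Over.OverMorphism.ext hl⟩
      · rintro ⟨t, rfl⟩
        exact hr.le ⟨_, rfl⟩
    mul := fun P Q ⟨W, q, h1, h2, hP⟩ ⟨W', q', h1', h2', hQ⟩ => by
      subst hP; subst hQ
      refine ⟨W ⊗ W', (fst W W' ≫ q) * (snd W W' ≫ q'), (prod_props h1 h2 h1' h2').1,
        (prod_props h1 h2 h1' h2').2, Set.ext fun g => ⟨?_, ?_⟩⟩
      · rintro ⟨_, ⟨t, rfl⟩, _, ⟨t', rfl⟩, rfl⟩
        exact ⟨lift t t', by simp [MonObj.comp_mul]⟩
      · rintro ⟨t, rfl⟩
        exact ⟨_, ⟨t ≫ fst W W', rfl⟩, _, ⟨t ≫ snd W W', rfl⟩, by simp [MonObj.comp_mul]⟩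
    comm := fun P Q ⟨W, q, h1, h2, hP⟩ ⟨W', q', h1', h2', hQ⟩ => by
      subst hP; subst hQ
      refine ⟨W ⊗ W', ⁅fst W W' ≫ q, snd W W' ≫ q'⁆, (prod_props h1 h2 h1' h2').1,
        (prod_props h1 h2 h1' h2').2, Set.ext fun g => ⟨?_, ?_⟩⟩
      · rintro ⟨_, ⟨t, rfl⟩, _, ⟨t', rfl⟩, rfl⟩
        exact ⟨lift t t', by simp [commutatorElement_def, MonObj.comp_mul, GrpObj.comp_inv]⟩
      · rintro ⟨t, rfl⟩
        exact ⟨_, ⟨t ≫ fst W W', rfl⟩, _, ⟨t ≫ snd W W', rfl⟩,
          by simp [commutatorElement_def, MonObj.comp_mul, GrpObj.comp_inv]⟩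
    invImg := fun P ⟨W, q, h1, h2, hP⟩ => by
      subst hP
      refine ⟨W, q⁻¹, h1, h2, Set.ext fun g => ⟨fun ⟨t, ht⟩ => ⟨t, ?_⟩, ?_⟩⟩
      · have ht' : t ≫ q = g⁻¹ := ht
        show t ≫ q⁻¹ = g
        rw [GrpObj.comp_inv, ht', inv_inv]
      · rintro ⟨t, rfl⟩
        exact ⟨t, by simp [GrpObj.comp_inv]⟩
    img_one := by
      refine ⟨𝟙_ _, 1, inferInstanceAs (LocallyOfFiniteType (𝟙 _)), inferInstanceAs (QuasiCompact (𝟙 _)),
        Set.ext fun g => ⟨fun hg => ⟨𝟙 _, by simp [Set.mem_singleton_iff.1 hg]⟩, ?_⟩⟩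
      rintro ⟨t, rfl⟩
      simp [MonObj.comp_one]
    exists_open := fun P ⟨W, q, h1, h2, hP⟩ hne => by
      subst hP
      have := isNoetherian_left G
      have := h1
      have := h2
      have : LocallyOfFiniteType (q.left ≫ G.hom) := by rw [Over.w]; infer_instance
      have : LocallyOfFiniteType q.left := locallyOfFiniteType_of_comp q.left G.hom
      have : QuasiCompact (q.left ≫ G.hom) := by rw [Over.w]; infer_instance
      have : QuasiCompact q.left := QuasiCompact.of_comp q.left G.hom
      have hR : Topology.IsConstructible (Set.range q.left) := by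
        rw [← Set.image_univ]
        exact q.left.isConstructible_image .univ
      have : SpectralSpace G.left := ⟨⟩
      obtain ⟨_, ⟨t, rfl⟩⟩ := hne
      obtain ⟨U, hU, hne', hUR⟩ := GrpQ.MonoClosed.exists_open_inter_closure_subset hR ⟨_, ptMap W t, rfl⟩
      obtain ⟨g, hgU, hgR⟩ := exists_pt_of_isLocallyClosed G (hU.isLocallyClosed.inter isClosed_closure.isLocallyClosed) hne'
      have hlift : ∀ g : Pts G, ptMap G g ∈ Set.range q.left → g ∈ Set.range fun t : Pts W => t ≫ q :=
        fun g hg => GenSub.exists_rational_lift q g (IsLocalRing.closedPoint k) hg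
      refine ⟨ptMap G ⁻¹' U, hU.preimage continuous_induced_dom,
        ⟨g, hlift g (hUR ⟨hgU, hgR⟩), hgU⟩, fun g' ⟨hg'U, hg'c⟩ => hlift g' (hUR ⟨hg'U, ?_⟩)⟩
      refine closure_mono ?_ (map_mem_closure (f := ptMap G) continuous_induced_dom hg'c (fun _ h => Set.mem_image_of_mem _ h))
      rintro _ ⟨_, ⟨t', rfl⟩, rfl⟩
      exact ⟨ptMap W t', rfl⟩ }

omit [GrpObj G] [IsAlgClosed k] in
theorem noetherianSpace_pts : @TopologicalSpace.NoetherianSpace (Pts G) (ptTop G) := by
  letI := ptTop G
  have := isNoetherian_left G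
  exact (⟨rfl⟩ : Topology.IsInducing (ptMap G)).noetherianSpace

omit [GrpObj G] [IsAlgClosed k] in
theorem wellFoundedGT_pts : @WellFoundedGT (@TopologicalSpace.IrreducibleCloseds (Pts G) (ptTop G)) _ := by
  letI := ptTop G
  have := isNoetherian_left G
  have hmax := Devissage.Dim.finite_maximal (X := G.left) (T := Set.univ) isClosed_univ
  obtain ⟨d, hd⟩ : ∃ d : ℕ, topologicalKrullDim G.left ≤ d := by
    refine ⟨hmax.toFinset.sup (VarDim.Basic.pdim G.hom), ?_⟩
    have h : topologicalKrullDim (Set.univ : Set G.left) ≤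
        ((hmax.toFinset.sup (VarDim.Basic.pdim G.hom) : ℕ) : WithBot ℕ∞) := by
      refine (VarDim.Basic.topologicalKrullDim_le_iff G.hom isClosed_univ.isLocallyClosed _).2 fun x _ => ?_
      obtain ⟨y, -, hy, hmy, -⟩ := VarDim.Fibre.exists_maximal (T := (Set.univ : Set G.left)) isClosed_univ
        (x := x) trivial
      have hy' : y ∈ hmax.toFinset := hmax.mem_toFinset.2 ⟨trivial, hmy⟩
      exact_mod_cast le_trans (VarDim.Basic.pdim_le G.hom hy) (Finset.le_sup (f := VarDim.Basic.pdim G.hom) hy')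
    exact ((Homeomorph.Set.univ G.left).isHomeomorph.topologicalKrullDim_eq).symm.trans_le h
  have hmono : ∀ Z Z' : TopologicalSpace.IrreducibleCloseds (Pts G), Z < Z' →
      closure (ptMap G '' (Z : Set (Pts G))) ⊂ closure (ptMap G '' (Z' : Set (Pts G))) := by
    intro Z Z' h
    refine ⟨closure_mono (Set.image_mono h.le), fun hle => h.not_ge fun g hg => ?_⟩
    rw [← SetLike.mem_coe, ← Z.isClosed.closure_eq, (⟨rfl⟩ : Topology.IsInducing (ptMap G)).closure_eq_preimage_closure_image]
    exact hle (subset_closure ⟨g, hg, rfl⟩)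
  refine ⟨RelEmbedding.wellFounded_iff_isEmpty.2 ⟨fun f => ?_⟩⟩
  let g : ℕ → TopologicalSpace.IrreducibleCloseds G.left := fun n =>
    ⟨closure (ptMap G '' (f n : Set (Pts G))),
      ((f n).isIrreducible.image _ continuous_induced_dom.continuousOn).closure, isClosed_closure⟩
  have hg : StrictMono g := strictMono_nat_of_lt_succ fun n => hmono _ _ (f.map_rel_iff.2 (Nat.lt_succ_self n))
  let s : LTSeries (TopologicalSpace.IrreducibleCloseds G.left) :=
    LTSeries.mk (d + 1) (fun i => g i.1) fun i j hij => hg hij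
  have h2 : ((d + 1 : ℕ) : WithBot ℕ∞) ≤ (d : WithBot ℕ∞) := le_trans (Order.LTSeries.length_le_krullDim s) hd
  exact absurd (Nat.cast_le.1 h2) (Nat.not_succ_le_self d)

end Groth.Agent.Lib.Solv
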