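import Groth.Prelude.Def_Red
import Groth.Agent.Lib.Solv.Points
import Groth.Agent.Lib.Solv.Cons
import Groth.Agent.Lib.GrpSch.BaseChange

/-!
Geometric fibres: their rational points, and constructible sets spreading a closed set of those.
-/

set_option autoImplicit false

universe u

open CategoryTheory Limits MonoidalCategory CartesianMonoidalCategory MonObj AlgebraicGeometry

namespace Groth.Agent.Lib.Solv

section Pts

variable {S S' U : Scheme.{u}} (j : S' ⟶ S) {a : U ⟶ S'} {a' : U ⟶ S} (h : a ≫ j = a') (G : Over S) [GrpObj G]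

/-- The tautological point of a base change. -/
noncomputable def tautPt : Over.mk a ⟶ Red.bc j (Over.mk a') :=
  Over.homMk (pullback.lift (f := (Over.mk a').hom) (g := j) (𝟙 U) a (by simpa using h.symm))
    (pullback.lift_snd _ _ _)

/-- Points of a base change. -/
noncomputable def toBC : (Over.mk a' ⟶ G) →* (Over.mk a ⟶ Red.bc j G) where
  toFun g := tautPt j h ≫ (Over.pullback j).map g
  map_one' := by rw [Functor.map_one, MonObj.comp_one]
  map_mul' g g' := by rw [Functor.map_mul, MonObj.comp_mul]

theorem toBC_proj (g : Over.mk a' ⟶ G) : (toBC j h G g).left ≫ GrpSch.bcProj j G = g.left := by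
  show ((tautPt j h).left ≫ ((Over.pullback j).map g).left) ≫ GrpSch.bcProj j G = g.left
  rw [Category.assoc, GrpSch.bc_map_proj, ← Category.assoc]
  erw [pullback.lift_fst]
  exact Category.id_comp _

theorem toBC_bijective : Function.Bijective (toBC j h G) := by
  refine ⟨fun g g' hg => Over.OverMorphism.ext ?_, fun v => ?_⟩
  · rw [← toBC_proj j h G g, ← toBC_proj j h G g', hg]
  · have hv : v.left ≫ GrpSch.bcProj j G ≫ G.hom = a' := by
      rw [(GrpSch.isPullback_bc j G).w, ← Category.assoc, Over.w v]
      exact h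
    let g : Over.mk a' ⟶ G := Over.homMk (v.left ≫ GrpSch.bcProj j G) (by simpa using hv)
    refine ⟨g, Over.OverMorphism.ext ((GrpSch.isPullback_bc j G).hom_ext ?_ ?_)⟩
    · exact toBC_proj j h G g
    · exact (Over.w _).trans (Over.w v).symm

end Pts

section Fibre

variable {S : Scheme.{u}} (s : S) (G : Over S) [GrpObj G]

theorem geomPt_apply : Red.geomPt s (IsLocalRing.closedPoint (AlgebraicClosure (S.residueField s))) = s :=
  Scheme.fromSpecResidueField_apply s _

/-- The projection of the geometric fibre to the fibre. -/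
noncomputable def toFiber : (Red.geomFibre s G).left ⟶ G.hom.fiber s :=
  pullback.lift (GrpSch.bcProj (Red.geomPt s) G)
    ((Red.geomFibre s G).hom ≫
      Spec.map (CommRingCat.ofHom (algebraMap (S.residueField s) (AlgebraicClosure (S.residueField s)))))
    (by rw [Category.assoc]; exact (GrpSch.isPullback_bc (Red.geomPt s) G).w)

omit [GrpObj G] in
theorem toFiber_ι : toFiber s G ≫ G.hom.fiberι s = GrpSch.bcProj (Red.geomPt s) G := pullback.lift_fst _ _ _

omit [GrpObj G] in
theorem isPullback_toFiber : IsPullback (toFiber s G) (Red.geomFibre s G).hom (G.hom.fiberToSpecResidueField s)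
    (Spec.map (CommRingCat.ofHom (algebraMap (S.residueField s) (AlgebraicClosure (S.residueField s))))) := by
  refine IsPullback.of_right ?_ (pullback.lift_snd _ _ _)
    (IsPullback.of_hasPullback G.hom (S.fromSpecResidueField s))
  rw [show toFiber s G ≫ pullback.fst G.hom (S.fromSpecResidueField s) = GrpSch.bcProj (Red.geomPt s) G from
    toFiber_ι s G]
  exact GrpSch.isPullback_bc (Red.geomPt s) G

omit [GrpObj G] in
theorem isClosedMap_toFiber : IsClosedMap (toFiber s G) := by
  have : IsIntegralHom (Spec.map (CommRingCat.ofHom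
      (algebraMap (S.residueField s) (AlgebraicClosure (S.residueField s))))) := by
    rw [IsIntegralHom.SpecMap_iff]
    exact fun y => Algebra.IsIntegral.isIntegral y
  have : IsIntegralHom (toFiber s G) := MorphismProperty.of_isPullback (isPullback_toFiber s G).flip this
  exact (toFiber s G).isClosedMap

/-- Rational points of the geometric fibre. -/
noncomputable def toPts : (Over.mk (Red.geomPt s) ⟶ G) →* Pts (Red.geomFibre s G) :=
  toBC (Red.geomPt s) (Category.id_comp _) G

theorem toPts_bijective : Function.Bijective (toPts s G) := toBC_bijective (Red.geomPt s) (Category.id_comp _) G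

theorem proj_ptMap (g : Over.mk (Red.geomPt s) ⟶ G) :
    GrpSch.bcProj (Red.geomPt s) G (ptMap (Red.geomFibre s G) (toPts s G g)) = pt g :=
  congrArg (fun φ : Spec (CommRingCat.of (AlgebraicClosure (S.residueField s))) ⟶ G.left =>
    φ (IsLocalRing.closedPoint _)) (toBC_proj (Red.geomPt s) (Category.id_comp _) G g)

/-- A closed set of rational points of a geometric fibre spreads to a constructible set. -/
theorem exists_spread [IsAffine S] [LocallyOfFinitePresentation G.hom] [QuasiCompact G.hom] [QuasiSeparated G.hom]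
    (X : Set (Pts (Red.geomFibre s G))) (hX : @IsClosed _ (ptTop (Red.geomFibre s G)) X) :
    ∃ E : Set G.left, Topology.IsLocallyConstructible E ∧
      (∀ g : Over.mk (Red.geomPt s) ⟶ G, toPts s G g ∈ X → pt g ∈ E) ∧
      ∀ F : Set G.left, Topology.IsLocallyConstructible F →
        (∀ g : Over.mk (Red.geomPt s) ⟶ G, toPts s G g ∈ X → pt g ∈ F) →
          ∀ g : Over.mk (Red.geomPt s) ⟶ G, pt g ∈ E → pt g ∈ F := by
  let GΩ := Red.geomFibre s G
  let p := GrpSch.bcProj (Red.geomPt s) G
  let Fbar : Set GΩ.left := closure (ptMap GΩ '' X)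
  have : CompactSpace G.left := QuasiCompact.compactSpace_of_compactSpace G.hom
  have : QuasiSeparatedSpace G.left := quasiSeparatedSpace_of_quasiSeparated G.hom
  have hlft : LocallyOfFiniteType (G.hom.fiberToSpecResidueField s) :=
    inferInstanceAs (LocallyOfFiniteType (pullback.snd G.hom (S.fromSpecResidueField s)))
  have hqc : QuasiCompact (G.hom.fiberToSpecResidueField s) :=
    inferInstanceAs (QuasiCompact (pullback.snd G.hom (S.fromSpecResidueField s)))
  have : IsLocallyNoetherian (G.hom.fiber s) := LocallyOfFiniteType.isLocallyNoetherian (G.hom.fiberToSpecResidueField s)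
  have : CompactSpace (G.hom.fiber s) := QuasiCompact.compactSpace_of_compactSpace (G.hom.fiberToSpecResidueField s)
  have : IsNoetherian (G.hom.fiber s) := {}
  have hC : IsClosed (toFiber s G '' Fbar) := isClosedMap_toFiber s G _ isClosed_closure
  obtain ⟨O', hO', hO'C⟩ := (G.hom.fiberι s).isEmbedding.isInducing.isOpen_iff.1 hC.isOpen_compl
  have hcomp : IsCompact (G.hom.fiberι s '' (toFiber s G '' Fbar)ᶜ) :=
    (TopologicalSpace.NoetherianSpace.isCompact _).image (G.hom.fiberι s).continuous
  obtain ⟨T, hT⟩ := hcomp.elim_finite_subcover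
    (fun U : {U : G.left.affineOpens // (U.1 : Set G.left) ⊆ O'} => (U.1.1 : Set G.left)) (fun U => U.1.1.2)
    (by
      rintro _ ⟨x, hx, rfl⟩
      obtain ⟨U, hU, hxU, hUO⟩ := exists_isAffineOpen_mem_and_subset (U := ⟨O', hO'⟩) (x := G.hom.fiberι s x)
        (hO'C.ge hx)
      exact Set.mem_iUnion.2 ⟨⟨⟨U, hU⟩, hUO⟩, hxU⟩)
  let O : Set G.left := ⋃ U ∈ T, (U.1.1 : Set G.left)
  have hO : IsOpen O := isOpen_biUnion fun U _ => U.1.1.2
  have hOc : IsCompact O := T.finite_toSet.isCompact_biUnion fun U _ => U.1.2.isCompact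
  refine ⟨Oᶜ, (hOc.isConstructible hO).compl.isLocallyConstructible, fun g hg hgO => ?_, fun F hF hXF g hg => ?_⟩
  · obtain ⟨U, hU, hgU⟩ := Set.mem_iUnion₂.1 hgO
    have h1 : toFiber s G (ptMap GΩ (toPts s G g)) ∈ toFiber s G '' Fbar :=
      ⟨_, subset_closure ⟨_, hg, rfl⟩, rfl⟩
    have h2 : G.hom.fiberι s (toFiber s G (ptMap GΩ (toPts s G g))) ∈ O' := by
      rw [← Scheme.Hom.comp_apply, toFiber_ι]
      exact (proj_ptMap s G g).symm ▸ U.2 hgU
    exact hO'C.le h2 h1
  · have hrange : pt g ∈ Set.range (G.hom.fiberι s) := by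
      rw [Scheme.Hom.range_fiberι]
      exact (hom_pt g).trans (geomPt_apply s)
    obtain ⟨x, hx⟩ := hrange
    obtain ⟨y, hy, rfl⟩ : x ∈ toFiber s G '' Fbar := by
      by_contra hxC
      exact hg (hx ▸ hT ⟨x, hxC, rfl⟩)
    rw [← hx, ← Scheme.Hom.comp_apply, toFiber_ι]
    by_contra hyF
    have : LocallyOfFiniteType GΩ.hom :=
      GrpSch.bc_hom_of (P := @LocallyOfFiniteType) _ G inferInstance
    have : QuasiCompact GΩ.hom := GrpSch.bc_hom_of (P := @QuasiCompact) _ G inferInstance
    have := isNoetherian_left GΩ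
    have : JacobsonSpace GΩ.left := LocallyOfFiniteType.jacobsonSpace GΩ.hom
    have hD : Topology.IsConstructible (Fbar ∩ (p ⁻¹' F)ᶜ) := by
      refine Topology.IsConstructible.inter ?_ (isLocallyConstructible_preimage p hF).isConstructible.compl
      rw [← compl_compl Fbar]
      exact ((TopologicalSpace.NoetherianSpace.isCompact _).isConstructible isClosed_closure.isOpen_compl).compl
    obtain ⟨y₀, ⟨hy₀F, hy₀⟩, hy₀c⟩ := exists_closedPoint hD ⟨y, hy, hyF⟩
    let v : Pts GΩ := Over.homMk (pointOfClosedPoint GΩ.hom y₀ hy₀c) (pointOfClosedPoint_comp _ _ _)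
    have hv : ptMap GΩ v = y₀ := pointOfClosedPoint_apply GΩ.hom y₀ hy₀c _
    let top := ptTop GΩ
    have hvX : v ∈ X := by
      rw [← hX.closure_eq, (⟨rfl⟩ : Topology.IsInducing (ptMap GΩ)).closure_eq_preimage_closure_image]
      show ptMap GΩ v ∈ closure (ptMap GΩ '' X)
      rw [hv]
      exact hy₀F
    obtain ⟨g₀, hg₀⟩ := (toPts_bijective s G).2 v
    have h0 := hXF g₀ (hg₀.symm ▸ hvX)
    rw [← proj_ptMap s G g₀, hg₀, hv] at h0
    exact hy₀ h0

end Fibre

end Groth.Agent.Lib.Solv
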