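import Mathlib.GroupTheory.Schreier
import Mathlib.GroupTheory.FiniteAbelian.Basic
import Mathlib.GroupTheory.SemidirectProduct
import Mathlib.GroupTheory.Nilpotent
import Mathlib.GroupTheory.Solvable
import Mathlib.Algebra.Group.Pointwise.Set.Basic
import Mathlib.Topology.NoetherianSpace
import Mathlib.Topology.Irreducible

/-!
Bounded width of commutator subgroups in groups with a Zariski-like topology.
-/

set_option autoImplicit false

universe u

open scoped commutatorElement Pointwise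
open TopologicalSpace

namespace Groth.Agent.Lib.Solv

variable (Γ : Type u) [Group Γ] [TopologicalSpace Γ]

/-- The properties of the group of rational points of an algebraic group that are used. -/
structure Zar : Prop where
  mulLeft : ∀ g : Γ, Continuous fun x : Γ => g * x
  mulRight : ∀ g : Γ, Continuous fun x : Γ => x * g
  inv : Continuous fun x : Γ => x⁻¹
  commLeft : ∀ b : Γ, Continuous fun x : Γ => ⁅x, b⁆
  commRight : ∀ a : Γ, Continuous fun x : Γ => ⁅a, x⁆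

/-- A class of images. -/
structure ImgClass where
  Img : Set Γ → Prop
  of_closed : ∀ s, IsClosed s → Img s
  mul : ∀ P Q, Img P → Img Q → Img (P * Q)
  comm : ∀ P Q, Img P → Img Q → Img (Set.image2 (fun a b => ⁅a, b⁆) P Q)
  invImg : ∀ P, Img P → Img P⁻¹
  img_one : Img ({1} : Set Γ)
  exists_open : ∀ P, Img P → P.Nonempty →
    ∃ U : Set Γ, IsOpen U ∧ (P ∩ U).Nonempty ∧ U ∩ closure P ⊆ P

variable {Γ}

/-- Separately continuous images of pairs of irreducible sets are irreducible. -/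
theorem isIrreducible_image2 {f : Γ → Γ → Γ} (hl : ∀ b, Continuous fun a => f a b) (hr : ∀ a, Continuous (f a))
    {X Y : Set Γ} (hX : IsIrreducible X) (hY : IsIrreducible Y) : IsIrreducible (Set.image2 f X Y) := by
  refine ⟨hX.1.image2 hY.1, isPreirreducible_iff_isClosed_union_isClosed.2 fun F₁ F₂ h₁ h₂ h => ?_⟩
  have hcl : ∀ F : Set Γ, IsClosed F → IsClosed {x | ∀ y ∈ Y, f x y ∈ F} := fun F hF => by
    rw [show {x | ∀ y ∈ Y, f x y ∈ F} = ⋂ y ∈ Y, (fun a => f a y) ⁻¹' F by ext; simp]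
    exact isClosed_biInter fun y _ => hF.preimage (hl y)
  have hsub : X ⊆ {x | ∀ y ∈ Y, f x y ∈ F₁} ∪ {x | ∀ y ∈ Y, f x y ∈ F₂} := fun x hx => by
    rcases isPreirreducible_iff_isClosed_union_isClosed.1 hY.2 (f x ⁻¹' F₁) (f x ⁻¹' F₂)
      (h₁.preimage (hr x)) (h₂.preimage (hr x)) (fun y hy => h ⟨x, hx, y, hy, rfl⟩) with h' | h'
    · exact Or.inl fun y hy => h' hy
    · exact Or.inr fun y hy => h' hy
  rcases isPreirreducible_iff_isClosed_union_isClosed.1 hX.2 _ _ (hcl _ h₁) (hcl _ h₂) hsub with h' | h'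
  · exact Or.inl (Set.image2_subset_iff.2 fun x hx y hy => h' hx y hy)
  · exact Or.inr (Set.image2_subset_iff.2 fun x hx y hy => h' hx y hy)

/-- Closures multiply into the closure of the product. -/
theorem mul_mem_closure_mul (z : Zar Γ) {P Q : Set Γ} {x y : Γ} (hx : x ∈ closure P) (hy : y ∈ closure Q) :
    x * y ∈ closure (P * Q) := by
  have h1 : ∀ p ∈ P, p * y ∈ closure (P * Q) := fun p hp =>
    map_mem_closure (z.mulLeft p) hy fun q hq => Set.mul_mem_mul hp hq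
  simpa using map_mem_closure (z.mulRight y) hx h1

theorem inv_mem_closure_inv (z : Zar Γ) {P : Set Γ} {x : Γ} (hx : x ∈ closure P) : x⁻¹ ∈ closure P⁻¹ :=
  map_mem_closure z.inv hx fun p hp => by simpa using hp

variable (z : Zar Γ) (C : ImgClass Γ)
include z C

/-- A subgroup which is an image is closed. -/
theorem isClosed_of_img (H : Subgroup Γ) (hH : C.Img H) : IsClosed (H : Set Γ) := by
  refine closure_subset_iff_isClosed.1 fun x hx => ?_
  obtain ⟨U, hU, ⟨c, hcH, hcU⟩, hUH⟩ := C.exists_open _ hH ⟨1, H.one_mem⟩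
  -- an element of the subgroup close to `x * c`
  have hxc : x * c ∈ closure (H : Set Γ) :=
    map_mem_closure (f := fun t : Γ => t * c) (z.mulRight c) hx fun h hh => H.mul_mem (show h ∈ H from hh) hcH
  let V := (fun t => x⁻¹ * t) ⁻¹' U
  obtain ⟨h, hhV, hh⟩ := mem_closure_iff.1 hxc V (hU.preimage (z.mulLeft _)) (show x⁻¹ * (x * c) ∈ U by simpa using hcU)
  have hx' : x⁻¹ ∈ closure (H : Set Γ) := by
    simpa using inv_mem_closure_inv z hx
  have hm : x⁻¹ * h ∈ closure (H : Set Γ) :=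
    map_mem_closure (f := fun t : Γ => t * h) (z.mulRight h) hx' fun t ht => H.mul_mem ht hh
  have : x⁻¹ * h ∈ H := hUH ⟨hhV, hm⟩
  have := H.mul_mem hh (H.inv_mem this)
  simpa using this

variable [NoetherianSpace Γ] [WellFoundedGT (IrreducibleCloseds Γ)]

omit C in
/-- The connected component of a closed subgroup: an irreducible closed subgroup of finite index, normalized
by whatever normalizes the subgroup. -/
theorem exists_component (H : Subgroup Γ) (hH : IsClosed (H : Set Γ)) :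
    ∃ H₀ : Subgroup Γ, H₀ ≤ H ∧ IsClosed (H₀ : Set Γ) ∧ IsIrreducible (H₀ : Set Γ) ∧
      (∀ g : Γ, (∀ h ∈ H, g * h * g⁻¹ ∈ H) → ∀ h ∈ H₀, g * h * g⁻¹ ∈ H₀) ∧
      ∃ R : Finset Γ, ∀ h ∈ H, ∃ r ∈ R, r ∈ H ∧ r⁻¹ * h ∈ H₀ := by
  let S : Set (IrreducibleCloseds Γ) := {Z | (1 : Γ) ∈ (Z : Set Γ) ∧ (Z : Set Γ) ⊆ H}
  have hne : S.Nonempty := by
    refine ⟨⟨closure {1}, isIrreducible_singleton.closure, isClosed_closure⟩, subset_closure rfl, ?_⟩
    exact closure_minimal (Set.singleton_subset_iff.2 H.one_mem) hH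
  obtain ⟨Z, hZS, hZmax⟩ := WellFounded.has_min (wellFounded_gt (α := IrreducibleCloseds Γ)) S hne
  have hmax : ∀ Y : Set Γ, IsIrreducible Y → (1 : Γ) ∈ Y → Y ⊆ H → Y ⊆ Z := by
    intro Y hY h1 hYH y hy
    let W : IrreducibleCloseds Γ := ⟨closure ((Z : Set Γ) * Y),
      (isIrreducible_image2 z.mulRight z.mulLeft Z.isIrreducible hY).closure, isClosed_closure⟩
    have hWS : W ∈ S := ⟨subset_closure ⟨1, hZS.1, 1, h1, _root_.one_mul 1⟩,
      closure_minimal (Set.mul_subset_iff.2 fun a ha b hb => H.mul_mem (hZS.2 ha) (hYH hb)) hH⟩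
    have hle : Z ≤ W := fun a ha => subset_closure ⟨a, ha, 1, h1, _root_.mul_one a⟩
    have : Z = W := hle.eq_or_lt.resolve_right (hZmax W hWS)
    rw [this]
    exact subset_closure ⟨1, hZS.1, y, hy, _root_.one_mul y⟩
  have hmul : ∀ a ∈ (Z : Set Γ), ∀ b ∈ (Z : Set Γ), a * b ∈ (Z : Set Γ) := fun a ha b hb =>
    hmax _ (isIrreducible_image2 z.mulRight z.mulLeft Z.isIrreducible Z.isIrreducible)
      ⟨1, hZS.1, 1, hZS.1, _root_.one_mul 1⟩
      (Set.image2_subset_iff.2 fun a ha b hb => H.mul_mem (hZS.2 ha) (hZS.2 hb)) ⟨a, ha, b, hb, rfl⟩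
  have hinv : ∀ a ∈ (Z : Set Γ), a⁻¹ ∈ (Z : Set Γ) := fun a ha =>
    hmax ((fun x : Γ => x⁻¹) '' Z) (Z.isIrreducible.image _ z.inv.continuousOn) ⟨1, hZS.1, inv_one⟩
      (Set.image_subset_iff.2 fun x hx => H.inv_mem (hZS.2 hx)) ⟨a, ha, rfl⟩
  let H₀ : Subgroup Γ :=
    { carrier := Z, mul_mem' := fun {a b} ha hb => hmul a ha b hb, one_mem' := hZS.1, inv_mem' := fun {a} ha => hinv a ha }
  refine ⟨H₀, hZS.2, Z.isClosed, Z.isIrreducible, fun g hg h hh => ?_, ?_⟩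
  · exact hmax ((fun x => g * x * g⁻¹) '' Z)
      (Z.isIrreducible.image _ ((z.mulRight _).comp (z.mulLeft g)).continuousOn) ⟨1, hZS.1, by simp⟩
      (Set.image_subset_iff.2 fun x hx => hg x (hZS.2 hx)) ⟨h, hh, rfl⟩
  · obtain ⟨F, hF, -, hFc, hFH⟩ := NoetherianSpace.exists_finite_set_isClosed_irreducible hH
    classical
    have hpick : ∀ X ∈ F, ∃ r : Γ, r ∈ H ∧ ∀ h ∈ X, r⁻¹ * h ∈ H₀ := fun X hX => by
      obtain ⟨r, hr⟩ := (hFc X hX).1
      have hrH : r ∈ H := hFH.ge ⟨X, hX, hr⟩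
      refine ⟨r, hrH, fun h hh => hmax ((fun x => r⁻¹ * x) '' X)
        ((hFc X hX).image _ (z.mulLeft _).continuousOn) ⟨r, hr, by simp⟩ ?_ ⟨h, hh, rfl⟩⟩
      rintro _ ⟨x, hx, rfl⟩
      exact H.mul_mem (H.inv_mem hrH) (hFH.ge ⟨X, hX, hx⟩)
    choose r hrH hr using hpick
    refine ⟨hF.toFinset.attach.image fun X => r X.1 (hF.mem_toFinset.1 X.2), fun h hh => ?_⟩
    obtain ⟨X, hX, hhX⟩ := hFH.le hh
    exact ⟨r X hX, Finset.mem_image.2 ⟨⟨X, hF.mem_toFinset.2 hX⟩, Finset.mem_attach _ _, rfl⟩, hrH X hX, hr X hX h hhX⟩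

omit [NoetherianSpace Γ] in
/-- Irreducible images through the unit generate a subgroup with bounded width. -/
theorem exists_bound_generated {ι : Type*} (X : ι → Set Γ) (hirr : ∀ i, IsIrreducible (X i))
    (himg : ∀ i, C.Img (X i)) (h1 : ∀ i, (1 : Γ) ∈ X i) (S : Set Γ) (hS : ∀ i, X i ⊆ S) (hS1 : (1 : Γ) ∈ S)
    (hSinv : ∀ x ∈ S, x⁻¹ ∈ S) :
    ∃ m : ℕ, (Subgroup.closure (⋃ i, X i) : Set Γ) ⊆ S ^ m := by
  rcases isEmpty_or_nonempty ι with hι | ⟨⟨i₀⟩⟩
  · exact ⟨0, by simp [Set.iUnion_of_empty]⟩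
  let N : Subgroup Γ := Subgroup.closure (⋃ i, X i)
  let PP : Set (Set Γ) := {P | IsIrreducible P ∧ C.Img P ∧ (1 : Γ) ∈ P ∧
    (∃ m : ℕ, P ⊆ S ^ m) ∧ P ⊆ (N : Set Γ)}
  let T : Set (IrreducibleCloseds Γ) := {Z | ∃ P ∈ PP, (Z : Set Γ) = closure P}
  have hXN : ∀ i, X i ⊆ (N : Set Γ) := fun i x hx => Subgroup.subset_closure (Set.mem_iUnion.2 ⟨i, hx⟩)
  have h₀ : X i₀ ∈ PP := ⟨hirr i₀, himg i₀, h1 i₀, ⟨1, by rw [pow_one]; exact hS i₀⟩, hXN i₀⟩
  obtain ⟨Z, ⟨P, ⟨hPirr, hPimg, hP1, ⟨m, hPm⟩, hPN⟩, hZP⟩, hZmax⟩ := WellFounded.has_min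
    (wellFounded_gt (α := IrreducibleCloseds Γ)) T ⟨⟨closure (X i₀), (hirr i₀).closure, isClosed_closure⟩, _, h₀, rfl⟩
  have hgrow : ∀ Q ∈ PP, P * Q ⊆ (Z : Set Γ) := by
    intro Q ⟨hQirr, hQimg, hQ1, ⟨m', hQm⟩, hQN⟩
    let W : IrreducibleCloseds Γ :=
      ⟨closure (P * Q), (isIrreducible_image2 z.mulRight z.mulLeft hPirr hQirr).closure, isClosed_closure⟩
    have hWT : W ∈ T := ⟨P * Q, ⟨isIrreducible_image2 z.mulRight z.mulLeft hPirr hQirr, C.mul _ _ hPimg hQimg,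
      ⟨1, hP1, 1, hQ1, _root_.one_mul 1⟩, ⟨m + m', by rw [pow_add]; exact Set.mul_subset_mul hPm hQm⟩,
      Set.mul_subset_iff.2 fun a ha b hb => N.mul_mem (hPN ha) (hQN hb)⟩, rfl⟩
    have hle : Z ≤ W := fun a ha => closure_mono (Set.subset_mul_left P hQ1) (hZP.le ha)
    rw [hle.eq_or_lt.resolve_right (hZmax W hWT)]
    exact subset_closure
  have hPinv : P⁻¹ ∈ PP := by
    refine ⟨?_, C.invImg P hPimg, by simpa using hP1, ⟨m, ?_⟩, fun x hx => N.inv_mem_iff.1 (hPN hx)⟩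
    · rw [← Set.image_inv_eq_inv]
      exact hPirr.image _ z.inv.continuousOn
    · refine (Set.inv_subset_inv.2 hPm).trans ?_
      rw [← inv_pow]
      exact Set.pow_subset_pow_left fun x hx => by simpa using hSinv _ hx
  have hZc : IsClosed (Z : Set Γ) := Z.isClosed
  have hmul : ∀ a ∈ (Z : Set Γ), ∀ b ∈ (Z : Set Γ), a * b ∈ (Z : Set Γ) := fun a ha b hb => by
    have h := mul_mem_closure_mul z (hZP.le ha) (hZP.le hb)
    exact closure_minimal (hgrow P ⟨hPirr, hPimg, hP1, ⟨m, hPm⟩, hPN⟩) hZc h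
  have hinv : ∀ a ∈ (Z : Set Γ), a⁻¹ ∈ (Z : Set Γ) := fun a ha => by
    have h := inv_mem_closure_inv z (hZP.le ha)
    exact closure_minimal ((Set.subset_mul_right _ hP1).trans (hgrow _ hPinv)) hZc h
  let H : Subgroup Γ := { carrier := Z, mul_mem' := fun {a b} ha hb => hmul a ha b hb,
                          one_mem' := hZP.ge (subset_closure hP1), inv_mem' := fun {a} ha => hinv a ha }
  have hNH : N ≤ H := (Subgroup.closure_le _).2 <| Set.iUnion_subset fun i x hx =>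
    hgrow _ ⟨hirr i, himg i, h1 i, ⟨1, by rw [pow_one]; exact hS i⟩, hXN i⟩ ⟨1, hP1, x, hx, _root_.one_mul x⟩
  obtain ⟨U, hU, ⟨c, hcP, hcU⟩, hUP⟩ := C.exists_open P hPimg ⟨1, hP1⟩
  refine ⟨m + m, fun x hx => ?_⟩
  have hxZ : x ∈ H := hNH hx
  have hcZ : c ∈ H := hZP.ge (subset_closure hcP)
  obtain ⟨t, htZ, htU, htU'⟩ := Z.isIrreducible.2 U ((fun t : Γ => t⁻¹ * x) ⁻¹' U) hU
    (hU.preimage ((z.mulRight x).comp z.inv)) ⟨c, hcZ, hcU⟩
    ⟨x * c⁻¹, H.mul_mem hxZ (H.inv_mem hcZ), by simpa using hcU⟩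
  rw [pow_add]
  exact ⟨t, hPm (hUP ⟨htU, hZP.le htZ⟩), t⁻¹ * x,
    hPm (hUP ⟨htU', hZP.le (H.mul_mem (H.inv_mem htZ) hxZ)⟩), mul_inv_cancel_left t x⟩

omit z C in
omit [TopologicalSpace Γ] [NoetherianSpace Γ] [WellFoundedGT (IrreducibleCloseds Γ)] in
/-- A relative form of Schur's theorem. -/
theorem finite_closure_comm (A B : Subgroup Γ) [B.Normal] (hBA : B ≤ A) (A₀ B₀ : Subgroup Γ)
    (hB₀ : B₀ ≤ B) (hAc : ∀ a ∈ A₀, ∀ b ∈ B, Commute a b) (hBc : ∀ b ∈ B₀, ∀ a ∈ A, Commute a b)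
    (RA : Finset Γ) (hRA : ∀ a ∈ A, ∃ r ∈ RA, r ∈ A ∧ r⁻¹ * a ∈ A₀)
    (RB : Finset Γ) (hRB : ∀ b ∈ B, ∃ r ∈ RB, r ∈ B ∧ r⁻¹ * b ∈ B₀) :
    ((Subgroup.closure (Set.image2 (fun a b : Γ => ⁅a, b⁆) (A : Set Γ) (B : Set Γ)) : Subgroup Γ) : Set Γ).Finite := by
  classical
  let φ : A →* MulAut B := MulAut.conjNormal.comp A.subtype
  let Q := φ.range
  have hφ : ∀ (a : A) (b : B), ((φ a b : B) : Γ) = a * b * (a : Γ)⁻¹ := fun a b => by simp [φ]
  have : Finite Q := by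
    have hfin : Finite {r // r ∈ RA ∧ r ∈ A} := Finite.of_injective (fun r => (⟨r.1, r.2.1⟩ : RA))
      fun r r' h => Subtype.ext (congrArg (fun t : RA => t.1) h)
    refine Finite.of_surjective (fun r : {r // r ∈ RA ∧ r ∈ A} => (⟨φ ⟨r.1, r.2.2⟩, ⟨_, rfl⟩⟩ : Q)) ?_
    rintro ⟨_, a, rfl⟩
    obtain ⟨r, hr, hrA, hra⟩ := hRA a a.2
    refine ⟨⟨r, hr, hrA⟩, Subtype.ext (MulEquiv.ext fun b => Subtype.ext ?_)⟩
    have h1 : φ a = φ ⟨r, hrA⟩ * φ ⟨r⁻¹ * a, A.mul_mem (A.inv_mem hrA) a.2⟩ := by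
      rw [← map_mul]; congr 1; ext; simp
    show ((φ ⟨r, hrA⟩ b : B) : Γ) = φ a b
    rw [h1, MulAut.mul_apply, show φ ⟨r⁻¹ * a, A.mul_mem (A.inv_mem hrA) a.2⟩ b = b from
      Subtype.ext (by rw [hφ]; exact ((hAc _ hra b b.2).eq ▸ mul_inv_cancel_right (b : Γ) (r⁻¹ * (a : Γ)) :))]
  let E := B ⋊[Q.subtype] Q
  have hcent : ∀ b : B, (b : Γ) ∈ B₀ → ∀ e : E, Commute (SemidirectProduct.inl b : E) e := by
    intro b hb e
    refine SemidirectProduct.ext ?_ ?_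
    · obtain ⟨⟨q, a, rfl⟩⟩ : ∃ _ : Q, True := ⟨e.right, trivial⟩
      simp only [SemidirectProduct.mul_left, SemidirectProduct.left_inl, SemidirectProduct.right_inl, map_one,
        MulAut.one_apply]
      obtain ⟨a', ha'⟩ := e.right.2
      refine Subtype.ext ?_
      have hq : ((Q.subtype e.right b : B) : Γ) = b := by
        rw [show Q.subtype e.right = φ a' from ha'.symm, hφ]
        exact ((hBc b hb a' a'.2).eq ▸ mul_inv_cancel_right (b : Γ) (a' : Γ) :)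
      rw [Subgroup.coe_mul, Subgroup.coe_mul, hq]
      exact ((hBc b hb e.left (hBA e.left.2)).eq).symm
    · simp
  have : Finite (commutatorSet E) := by
    let RB' := {r // r ∈ RB ∧ r ∈ B}
    have : Finite RB' := Finite.of_injective (fun r => (⟨r.1, r.2.1⟩ : RB))
      fun r r' h => Subtype.ext (congrArg (fun t : RB => t.1) h)
    let g : RB' × Q → E := fun p => ⟨⟨p.1.1, p.1.2.2⟩, p.2⟩
    refine ((Set.finite_range fun p : (RB' × Q) × (RB' × Q) => ⁅g p.1, g p.2⁆).subset ?_).to_subtype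
    have hdec : ∀ e : E, ∃ (p : RB' × Q) (b : B), (b : Γ) ∈ B₀ ∧ e = SemidirectProduct.inl b * g p := by
      intro e
      obtain ⟨r, hr, hrB, hrb⟩ := hRB e.left e.left.2
      let b : B := ⟨r⁻¹ * e.left, hB₀ hrb⟩
      refine ⟨(⟨r, hr, hrB⟩, e.right), b, hrb, ?_⟩
      rw [(hcent b hrb _).eq]
      refine SemidirectProduct.ext ?_ (by simp [g])
      refine Subtype.ext ?_
      obtain ⟨a', ha'⟩ := e.right.2
      have hq : ((Q.subtype e.right b : B) : Γ) = b := by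
        rw [show Q.subtype e.right = φ a' from ha'.symm, hφ]
        exact ((hBc b hrb a' a'.2).eq ▸ mul_inv_cancel_right (b : Γ) (a' : Γ) :)
      simp only [SemidirectProduct.mul_left, SemidirectProduct.left_inl, g, Subgroup.coe_mul]
      rw [hq]
      simp [b]
    rintro _ ⟨e₁, e₂, rfl⟩
    obtain ⟨p₁, b₁, hb₁, rfl⟩ := hdec e₁
    obtain ⟨p₂, b₂, hb₂, rfl⟩ := hdec e₂
    refine ⟨(p₁, p₂), ?_⟩
    show ⁅g p₁, g p₂⁆ = _
    have key : ∀ (c : E), (∀ e, Commute c e) → ∀ x y : E, ⁅c * x, y⁆ = ⁅x, y⁆ := fun c hc x y => by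
      have h : c * (x * y * x⁻¹) * c⁻¹ = x * y * x⁻¹ := (congrArg (· * c⁻¹) (hc (x * y * x⁻¹)).eq).trans (mul_inv_cancel_right _ _)
      calc ⁅c * x, y⁆ = c * (x * y * x⁻¹) * c⁻¹ * y⁻¹ := by simp only [commutatorElement_def, mul_inv_rev, _root_.mul_assoc]
        _ = _ := by rw [h, commutatorElement_def]
    rw [key _ (hcent b₁ hb₁), ← commutatorElement_inv (SemidirectProduct.inl b₂ * g p₂), key _ (hcent b₂ hb₂),
      commutatorElement_inv]
  let F : Subgroup Γ := ((_root_.commutator E).comap (SemidirectProduct.inl : B →* E)).map B.subtype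
  have hF : (F : Set Γ).Finite := by
    rw [Subgroup.coe_map]
    refine Set.Finite.image _ ?_
    rw [Subgroup.coe_comap]
    have : Finite (_root_.commutator E) := inferInstance
    have hfin : ((_root_.commutator E : Subgroup E) : Set E).Finite := Set.toFinite _
    exact hfin.preimage SemidirectProduct.inl_injective.injOn
  refine hF.subset ((Subgroup.closure_le _).2 ?_)
  rintro _ ⟨a, ha, b, hb, rfl⟩
  let q : Q := ⟨φ ⟨a, ha⟩, ⟨_, rfl⟩⟩
  refine ⟨φ ⟨a, ha⟩ ⟨b, hb⟩ * (⟨b, hb⟩ : B)⁻¹, ?_, ?_⟩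
  · show (SemidirectProduct.inl _ : E) ∈ _root_.commutator E
    rw [map_mul, map_inv, show φ ⟨a, ha⟩ = Q.subtype q from rfl, SemidirectProduct.inl_aut, map_inv,
      commutator_def]
    exact Subgroup.commutator_mem_commutator (Subgroup.mem_top _) (Subgroup.mem_top _)
  · show ((φ ⟨a, ha⟩ ⟨b, hb⟩ : B) : Γ) * b⁻¹ = ⁅a, b⁆
    rw [hφ, commutatorElement_def]

omit z C in
omit [TopologicalSpace Γ] [NoetherianSpace Γ] [WellFoundedGT (IrreducibleCloseds Γ)] in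
/-- A relative form of Schur's theorem, without inclusion between the two subgroups. -/
theorem finite_closure_comm' (A B : Subgroup Γ) [A.Normal] [B.Normal] (A₀ B₀ : Subgroup Γ)
    (hA₀ : A₀ ≤ A) (hB₀ : B₀ ≤ B) (hAc : ∀ a ∈ A₀, ∀ b ∈ B, Commute a b) (hBc : ∀ b ∈ B₀, ∀ a ∈ A, Commute a b)
    (RA : Finset Γ) (hRA : ∀ a ∈ A, ∃ r ∈ RA, r ∈ A ∧ r⁻¹ * a ∈ A₀)
    (RB : Finset Γ) (hRB : ∀ b ∈ B, ∃ r ∈ RB, r ∈ B ∧ r⁻¹ * b ∈ B₀) :
    ((Subgroup.closure (Set.image2 (fun a b : Γ => ⁅a, b⁆) (A : Set Γ) (B : Set Γ)) : Subgroup Γ) : Set Γ).Finite := by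
  classical
  let D := A ⊓ B
  -- representatives of the intersection
  have hRD : ∃ RD : Finset Γ, ∀ d ∈ D, ∃ r ∈ RD, r ∈ D ∧ r⁻¹ * d ∈ A₀ ⊓ B₀ := by
    let P : Γ × Γ → Γ := fun p =>
      if h : ∃ x ∈ D, p.1⁻¹ * x ∈ A₀ ∧ p.2⁻¹ * x ∈ B₀ then h.choose else 1
    refine ⟨(RA ×ˢ RB).image P, fun d hd => ?_⟩
    obtain ⟨r, hr, -, hra⟩ := hRA d hd.1
    obtain ⟨r', hr', -, hrb⟩ := hRB d hd.2
    have h : ∃ x ∈ D, r⁻¹ * x ∈ A₀ ∧ r'⁻¹ * x ∈ B₀ := ⟨d, hd, hra, hrb⟩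
    refine ⟨P (r, r'), Finset.mem_image_of_mem _ (Finset.mem_product.2 ⟨hr, hr'⟩), ?_⟩
    simp only [P, dif_pos h]
    obtain ⟨h1, h2, h3⟩ := h.choose_spec
    exact ⟨h1, by simpa [_root_.mul_assoc] using A₀.mul_mem (A₀.inv_mem h2) hra,
      by simpa [_root_.mul_assoc] using B₀.mul_mem (B₀.inv_mem h3) hrb⟩
  obtain ⟨RD, hRD⟩ := hRD
  have : D.Normal := Subgroup.normal_inf_normal A B
  have hfinM : ((⁅A, D⁆ : Subgroup Γ) : Set Γ).Finite := by
    rw [Subgroup.commutator_def]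
    exact finite_closure_comm A D inf_le_left A₀ (A₀ ⊓ B₀)
      (fun x hx => ⟨hA₀ hx.1, hB₀ hx.2⟩) (fun a ha d hd => hAc a ha d hd.2)
      (fun d hd a ha => hBc d hd.2 a ha) RA hRA RD hRD
  let M : Subgroup Γ := ⁅A, D⁆
  let π : Γ →* Γ ⧸ M := QuotientGroup.mk' M
  set S : Set Γ := Set.image2 (fun a b : Γ => ⁅a, b⁆) (A : Set Γ) (B : Set Γ)
  have hS : S ⊆ Set.image2 (fun a b : Γ => ⁅a, b⁆) (RA : Set Γ) (RB : Set Γ) := by
    rintro _ ⟨a, ha, b, hb, rfl⟩
    obtain ⟨r, hr, hrA, hra⟩ := hRA a ha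
    obtain ⟨r', hr', hrB, hrb⟩ := hRB b hb
    refine ⟨r, hr, r', hr', ?_⟩
    have c1 : ⁅r⁻¹ * a, b⁆ = 1 := commutatorElement_eq_one_iff_commute.2 (hAc _ hra b hb)
    have c2 : ⁅r, r'⁻¹ * b⁆ = 1 := commutatorElement_eq_one_iff_commute.2 (hBc _ hrb r hrA)
    calc ⁅r, r'⁆ = ⁅r, r'⁆ * (r' * ⁅r, r'⁻¹ * b⁆ * r'⁻¹) := by simp [c2]
      _ = ⁅r, b⁆ := by simp [commutatorElement_def, _root_.mul_assoc]
      _ = r * ⁅r⁻¹ * a, b⁆ * r⁻¹ * ⁅r, b⁆ := by simp [c1]
      _ = ⁅a, b⁆ := by simp [commutatorElement_def, _root_.mul_assoc]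
  have hSfin : S.Finite := (RA.finite_toSet.image2 _ RB.finite_toSet).subset hS
  have hSD : S ⊆ (D : Set Γ) := by
    rintro _ ⟨a, ha, b, hb, rfl⟩
    exact ⟨Subgroup.commutator_le_left A B (Subgroup.commutator_mem_commutator ha hb),
      Subgroup.commutator_le_right A B (Subgroup.commutator_mem_commutator ha hb)⟩
  have hcomm : ∀ a ∈ A, ∀ d ∈ D, Commute (π a) (π d) := fun a ha d hd => by
    rw [← commutatorElement_eq_one_iff_commute, ← map_commutatorElement]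
    exact (QuotientGroup.eq_one_iff _).2 (Subgroup.commutator_mem_commutator ha hd)
  have htor : ∀ s ∈ S, IsOfFinOrder (π s) := by
    rintro _ ⟨a, ha, b, hb, rfl⟩
    rw [← finite_powers]
    refine (hSfin.image π).subset ?_
    rintro _ ⟨n, rfl⟩
    refine ⟨⁅a ^ n, b⁆, ⟨_, A.pow_mem ha n, b, hb, rfl⟩, ?_⟩
    show π ⁅a ^ n, b⁆ = π ⁅a, b⁆ ^ n
    induction n with
    | zero => simp
    | succ n ih =>
      have e : ⁅a ^ (n + 1), b⁆ = a ^ n * ⁅a, b⁆ * (a ^ n)⁻¹ * ⁅a ^ n, b⁆ := by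
        simp [pow_succ, commutatorElement_def, _root_.mul_assoc]
      have hd : ⁅a, b⁆ ∈ D := hSD ⟨a, ha, b, hb, rfl⟩
      rw [e]
      simp only [map_mul, map_inv]
      rw [(hcomm _ (A.pow_mem ha n) _ hd).eq, mul_inv_cancel_right, ih, pow_succ']
  have hCcomm : ∀ x ∈ π '' S, ∀ y ∈ π '' S, x * y = y * x := by
    rintro _ ⟨s, hs, rfl⟩ _ ⟨t, ht, rfl⟩
    exact (hcomm s (hSD hs).1 t (hSD ht)).eq
  set C : Subgroup (Γ ⧸ M) := Subgroup.closure (π '' S)
  have hCtor : ∀ x ∈ C, IsOfFinOrder x ∧ ∀ y ∈ C, Commute x y := by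
    have hc : ∀ x ∈ C, ∀ y ∈ C, Commute x y := fun x hx y hy => by
      induction hx, hy using Subgroup.closure_induction₂ with
      | mem x y hx hy => exact hCcomm x hx y hy
      | one_left y hy => exact Commute.one_left y
      | one_right x hx => exact Commute.one_right x
      | mul_left x y z _ _ _ h1 h2 => exact h1.mul_left h2
      | mul_right y z x _ _ _ h1 h2 => exact h1.mul_right h2
      | inv_left x y _ _ h => exact h.inv_left
      | inv_right x y _ _ h => exact h.inv_right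
    intro x hx
    refine ⟨?_, hc x hx⟩
    induction hx using Subgroup.closure_induction with
    | mem x hx => obtain ⟨s, hs, rfl⟩ := hx; exact htor s hs
    | one => exact IsOfFinOrder.one
    | mul x y hx hy h1 h2 => exact (hc x hx y hy).isOfFinOrder_mul h1 h2
    | inv x _ h => exact isOfFinOrder_inv_iff.2 h
  let : CommGroup C := { (inferInstance : Group C) with mul_comm := fun x y => Subtype.ext ((hCtor _ x.2).2 _ y.2).eq }
  have : Group.FG C := (Group.fg_iff_subgroup_fg C).2 ((Subgroup.fg_iff _).2 ⟨π '' S, rfl, hSfin.image π⟩)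
  have : Finite C := CommGroup.finite_of_fg_isMulTorsion (G := C) fun x => by
    obtain ⟨n, hn, hxn⟩ := isOfFinOrder_iff_pow_eq_one.1 (hCtor _ x.2).1
    exact isOfFinOrder_iff_pow_eq_one.2 ⟨n, hn, Subtype.ext (by simpa using hxn)⟩
  have hker : ((π.ker : Subgroup Γ) : Set Γ).Finite := by
    rw [QuotientGroup.ker_mk']
    exact hfinM
  have : Finite (π.ker) := hker.to_subtype
  refine ((Set.toFinite (C : Set (Γ ⧸ M))).preimage' fun c _ => ?_).subset
    (show ((Subgroup.closure S : Subgroup Γ) : Set Γ) ⊆ π ⁻¹' (C : Set (Γ ⧸ M)) from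
      (Subgroup.closure_le (C.comap π)).2 fun s hs => Subgroup.subset_closure ⟨s, hs, rfl⟩)
  rcases (π ⁻¹' {c}).eq_empty_or_nonempty with h | ⟨x, hx⟩
  · rw [h]; exact Set.finite_empty
  · refine (hker.image fun k => x * k).subset fun y hy => ⟨x⁻¹ * y, ?_, mul_inv_cancel_left x y⟩
    rw [SetLike.mem_coe, MonoidHom.mem_ker, map_mul, map_inv,
      show π x = c from hx, show π y = c from hy, inv_mul_cancel]

omit z C in
omit [TopologicalSpace Γ] [NoetherianSpace Γ] [WellFoundedGT (IrreducibleCloseds Γ)] in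
/-- Elements of the generated subgroup are products of generators. -/
theorem exists_mem_pow {S : Set Γ} (hinv : ∀ x ∈ S, x⁻¹ ∈ S) {x : Γ} (hx : x ∈ Subgroup.closure S) :
    ∃ n : ℕ, x ∈ S ^ n := by
  induction hx using Subgroup.closure_induction with
  | mem y hy => exact ⟨1, by rwa [pow_one]⟩
  | one => exact ⟨0, by simp⟩
  | mul y y' _ _ hy hy' =>
    obtain ⟨n, hn⟩ := hy; obtain ⟨n', hn'⟩ := hy'
    exact ⟨n + n', by rw [pow_add]; exact Set.mul_mem_mul hn hn'⟩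
  | inv y _ hy =>
    obtain ⟨n, hn⟩ := hy
    refine ⟨n, Set.pow_subset_pow_left (n := n) (fun t ht => ?_) (show y⁻¹ ∈ (S⁻¹) ^ n by rw [inv_pow]; simpa using hn)⟩
    simpa using hinv _ ht

/-- The commutator of two closed normal subgroups is closed and of bounded width. -/
theorem comm_bounded (A B : Subgroup Γ) [A.Normal] [B.Normal] (hA : IsClosed (A : Set Γ)) (hB : IsClosed (B : Set Γ)) :
    IsClosed (⁅A, B⁆ : Subgroup Γ).carrier ∧
      ∃ L : ℕ, ((⁅A, B⁆ : Subgroup Γ) : Set Γ) ⊆ (Set.image2 (fun a b : Γ => ⁅a, b⁆) (A : Set Γ) (B : Set Γ)) ^ L := by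
  classical
  obtain ⟨A₀, hA₀, hA₀c, hA₀i, hA₀n, RA, hRA⟩ := exists_component z A hA
  obtain ⟨B₀, hB₀, hB₀c, hB₀i, hB₀n, RB, hRB⟩ := exists_component z B hB
  set S := Set.image2 (fun a b : Γ => ⁅a, b⁆) (A : Set Γ) (B : Set Γ)
  have hSinv : ∀ x ∈ S, x⁻¹ ∈ S := by
    rintro _ ⟨a, ha, b, hb, rfl⟩
    exact ⟨b * a * b⁻¹, ‹A.Normal›.conj_mem a ha b, b⁻¹, B.inv_mem hb, by simp [commutatorElement_def, _root_.mul_assoc]⟩
  have hS1 : (1 : Γ) ∈ S := ⟨1, A.one_mem, 1, B.one_mem, by simp⟩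
  let ι := {r // r ∈ RB ∧ r ∈ B} ⊕ {r // r ∈ RA ∧ r ∈ A}
  let Y : ι → Set Γ := Sum.elim
    (fun r => Set.image2 (fun a b : Γ => ⁅a, b⁆) (A₀ : Set Γ) ((fun x => r.1 * x) '' (B₀ : Set Γ)))
    (fun r => Set.image2 (fun a b : Γ => ⁅a, b⁆) ((fun x => r.1 * x) '' (A₀ : Set Γ)) (B₀ : Set Γ))
  have htr : ∀ (r : Γ) (K : Set Γ), IsClosed K → IsClosed ((fun x => r * x) '' K) := fun r K hK => by
    rw [show (fun x => r * x) '' K = (fun x => r⁻¹ * x) ⁻¹' K by
      ext x; exact ⟨by rintro ⟨y, hy, rfl⟩; simpa using hy, fun hx => ⟨r⁻¹ * x, hx, by simp⟩⟩]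
    exact hK.preimage (z.mulLeft _)
  have hY : ∀ i, IsIrreducible (Y i) ∧ C.Img (Y i) ∧ (1 : Γ) ∈ Y i ∧ Y i ⊆ S := by
    rintro (r | r)
    · exact ⟨isIrreducible_image2 z.commLeft z.commRight hA₀i (hB₀i.image _ (z.mulLeft _).continuousOn),
        C.comm _ _ (C.of_closed _ hA₀c) (C.of_closed _ (htr _ _ hB₀c)),
        ⟨1, A₀.one_mem, r.1, ⟨1, B₀.one_mem, _root_.mul_one _⟩, commutatorElement_one_left _⟩,
        Set.image2_subset hA₀ (Set.image_subset_iff.2 fun x hx => B.mul_mem r.2.2 (hB₀ hx))⟩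
    · exact ⟨isIrreducible_image2 z.commLeft z.commRight (hA₀i.image _ (z.mulLeft _).continuousOn) hB₀i,
        C.comm _ _ (C.of_closed _ (htr _ _ hA₀c)) (C.of_closed _ hB₀c),
        ⟨r.1, ⟨1, A₀.one_mem, _root_.mul_one _⟩, 1, B₀.one_mem, commutatorElement_one_right _⟩,
        Set.image2_subset (Set.image_subset_iff.2 fun x hx => A.mul_mem r.2.2 (hA₀ hx)) hB₀⟩
  let X : ι × Bool → Set Γ := fun i => if i.2 then Y i.1 else (Y i.1)⁻¹
  obtain ⟨m, hm⟩ := exists_bound_generated z C X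
    (fun i => by
      dsimp only [X]; split
      · exact (hY _).1
      · rw [← Set.image_inv_eq_inv]; exact (hY _).1.image _ z.inv.continuousOn)
    (fun i => by
      dsimp only [X]; split
      · exact (hY _).2.1
      · exact C.invImg _ (hY _).2.1)
    (fun i => by
      dsimp only [X]; split
      · exact (hY _).2.2.1
      · simpa using (hY _).2.2.1)
    S
    (fun i => by
      dsimp only [X]; split
      · exact (hY _).2.2.2
      · intro x hx; simpa using hSinv _ ((hY _).2.2.2 (Set.mem_inv.1 hx)))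
    hS1 hSinv
  set N := Subgroup.closure (⋃ i, X i)
  let gens : Set Γ := Set.image2 (fun a b : Γ => ⁅a, b⁆) (A₀ : Set Γ) (B : Set Γ) ∪
    Set.image2 (fun a b : Γ => ⁅a, b⁆) (A : Set Γ) (B₀ : Set Γ)
  have hgen : gens ⊆ N := by
    rintro _ (⟨a, ha, b, hb, rfl⟩ | ⟨a, ha, b, hb, rfl⟩)
    · obtain ⟨r, hr, hrB, hrb⟩ := hRB b hb
      exact Subgroup.subset_closure (Set.mem_iUnion.2
        ⟨(Sum.inl ⟨r, hr, hrB⟩, true), a, ha, b, ⟨_, hrb, mul_inv_cancel_left r b⟩, rfl⟩)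
    · obtain ⟨r, hr, hrA, hra⟩ := hRA a ha
      exact Subgroup.subset_closure (Set.mem_iUnion.2
        ⟨(Sum.inr ⟨r, hr, hrA⟩, true), a, ⟨_, hra, mul_inv_cancel_left r a⟩, b, hb, rfl⟩)
  have hNeq : N = Subgroup.closure gens := by
    refine le_antisymm ((Subgroup.closure_le _).2 (Set.iUnion_subset ?_)) ((Subgroup.closure_le _).2 hgen)
    have hYg : ∀ i, Y i ⊆ gens := by
      rintro (r | r)
      · rintro _ ⟨a, ha, _, ⟨x, hx, rfl⟩, rfl⟩
        exact Or.inl ⟨a, ha, _, B.mul_mem r.2.2 (hB₀ hx), rfl⟩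
      · rintro _ ⟨_, ⟨x, hx, rfl⟩, b, hb, rfl⟩
        exact Or.inr ⟨_, A.mul_mem r.2.2 (hA₀ hx), b, hb, rfl⟩
    intro i x hx
    dsimp only [X] at hx
    split at hx
    · exact Subgroup.subset_closure (hYg _ hx)
    · exact (Subgroup.closure gens).inv_mem_iff.1 (Subgroup.subset_closure (hYg _ (Set.mem_inv.1 hx)))
  have hgconj : ∀ g : Γ, ∀ t ∈ gens, g * t * g⁻¹ ∈ gens := by
    rintro g _ (⟨a, ha, b, hb, rfl⟩ | ⟨a, ha, b, hb, rfl⟩)
    · exact Or.inl ⟨_, hA₀n g (fun h hh => ‹A.Normal›.conj_mem h hh g) a ha, _, ‹B.Normal›.conj_mem b hb g,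
        by simp [commutatorElement_def, _root_.mul_assoc]⟩
    · exact Or.inr ⟨_, ‹A.Normal›.conj_mem a ha g, _, hB₀n g (fun h hh => ‹B.Normal›.conj_mem h hh g) b hb,
        by simp [commutatorElement_def, _root_.mul_assoc]⟩
  have : N.Normal := by
    refine ⟨fun n hn g => ?_⟩
    rw [hNeq] at hn ⊢
    induction hn using Subgroup.closure_induction with
    | mem x hx => exact Subgroup.subset_closure (hgconj g x hx)
    | one => simp
    | mul x y _ _ hx hy => simpa [_root_.mul_assoc] using mul_mem hx hy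
    | inv x _ hx => simpa [_root_.mul_assoc] using inv_mem hx
  let q : Γ →* Γ ⧸ N := QuotientGroup.mk' N
  have hqsurj : Function.Surjective q := QuotientGroup.mk'_surjective N
  have : (B.map q).Normal := Subgroup.Normal.map ‹B.Normal› q hqsurj
  have hq : ∀ a b : Γ, ⁅a, b⁆ ∈ gens → Commute (q a) (q b) := fun a b h => by
    rw [← commutatorElement_eq_one_iff_commute, ← map_commutatorElement]
    exact (QuotientGroup.eq_one_iff _).2 (hgen h)
  have : (A.map q).Normal := Subgroup.Normal.map ‹A.Normal› q hqsurj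
  have hfin := finite_closure_comm' (A.map q) (B.map q) (A₀.map q) (B₀.map q)
    (Subgroup.map_mono hA₀) (Subgroup.map_mono hB₀)
    (by rintro _ ⟨a, ha, rfl⟩ _ ⟨b, hb, rfl⟩; exact hq a b (Or.inl ⟨a, ha, b, hb, rfl⟩))
    (by rintro _ ⟨b, hb, rfl⟩ _ ⟨a, ha, rfl⟩; exact hq a b (Or.inr ⟨a, ha, b, hb, rfl⟩))
    (RA.image q) (by
      rintro _ ⟨a, ha, rfl⟩
      obtain ⟨r, hr, hrA, hra⟩ := hRA a ha
      exact ⟨q r, Finset.mem_image_of_mem _ hr, ⟨r, hrA, rfl⟩, _, hra, by simp⟩)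
    (RB.image q) (by
      rintro _ ⟨b, hb, rfl⟩
      obtain ⟨r, hr, hrB, hrb⟩ := hRB b hb
      exact ⟨q r, Finset.mem_image_of_mem _ hr, ⟨r, hrB, rfl⟩, _, hrb, by simp⟩)
  have hM : (⁅A, B⁆ : Subgroup Γ) = Subgroup.closure S := by
    rw [Subgroup.commutator_def]; rfl
  have himg : q '' S = Set.image2 (fun a b : Γ ⧸ N => ⁅a, b⁆) (A.map q : Set (Γ ⧸ N)) (B.map q : Set (Γ ⧸ N)) := by
    rw [Subgroup.coe_map, Subgroup.coe_map]
    exact Set.image_image2_distrib fun a b => map_commutatorElement q a b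
  rw [← himg, ← MonoidHom.map_closure] at hfin
  have hchoose : ∀ t ∈ ((Subgroup.closure S).map q : Set (Γ ⧸ N)), ∃ n : ℕ, ∃ x ∈ S ^ n, q x = t := by
    rintro _ ⟨x, hx, rfl⟩
    obtain ⟨n, hn⟩ := exists_mem_pow hSinv hx
    exact ⟨n, x, hn, rfl⟩
  choose n x hx hxt using hchoose
  let L := hfin.toFinset.attach.sup (fun t => n t.1 (hfin.mem_toFinset.1 t.2))
  have hsub : ((⁅A, B⁆ : Subgroup Γ) : Set Γ) ⊆ S ^ (L + m) := by
    rw [hM]
    intro y hy
    have hty : q y ∈ ((Subgroup.closure S).map q : Set (Γ ⧸ N)) := ⟨y, hy, rfl⟩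
    have hle : n _ hty ≤ L :=
      Finset.le_sup (f := fun t : {t // t ∈ hfin.toFinset} => n t.1 (hfin.mem_toFinset.1 t.2))
        (Finset.mem_attach _ ⟨q y, hfin.mem_toFinset.2 hty⟩)
    have hn : (x _ hty)⁻¹ * y ∈ N := QuotientGroup.eq.1 (hxt _ hty)
    rw [pow_add]
    exact ⟨_, Set.pow_subset_pow_right hS1 hle (hx _ hty), _, hm hn, mul_inv_cancel_left _ y⟩
  have hSimg : C.Img S := C.comm _ _ (C.of_closed _ hA) (C.of_closed _ hB)
  have hpow : ∀ l : ℕ, C.Img (S ^ l) := fun l => by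
    induction l with
    | zero => rw [pow_zero]; exact C.img_one
    | succ l ih => rw [pow_succ]; exact C.mul _ _ ih hSimg
  have hpS : ∀ l : ℕ, S ^ l ⊆ ((⁅A, B⁆ : Subgroup Γ) : Set Γ) := fun l => by
    induction l with
    | zero => simp
    | succ l ih =>
      rw [pow_succ]
      refine Set.mul_subset_iff.2 fun a ha b hb => Subgroup.mul_mem _ (ih ha) ?_
      rw [hM]; exact Subgroup.subset_closure hb
  refine ⟨isClosed_of_img z C _ ?_, L + m, hsub⟩
  rw [Set.Subset.antisymm hsub (hpS _)]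
  exact hpow _

/-- Either the derived series vanishes or a nontrivial term of it is perfect with bounded width. -/
theorem exists_witness_derived :
    (∃ n, derivedSeries Γ n = ⊥) ∨ ∃ (n L : ℕ), derivedSeries Γ n ≠ ⊥ ∧ IsClosed (derivedSeries Γ n : Set Γ) ∧
      (derivedSeries Γ n : Set Γ) ⊆
        (Set.image2 (fun a b : Γ => ⁅a, b⁆) (derivedSeries Γ n : Set Γ) (derivedSeries Γ n : Set Γ)) ^ L := by
  have hcl : ∀ n, IsClosed (derivedSeries Γ n : Set Γ) := fun n => by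
    induction n with
    | zero => simp
    | succ n ih => rw [derivedSeries_succ]; exact (comm_bounded z C _ _ ih ih).1
  let D : ℕ → Closeds Γ := fun n => ⟨derivedSeries Γ n, hcl n⟩
  obtain ⟨_, ⟨N, rfl⟩, hN⟩ := WellFounded.has_min (wellFounded_lt (α := Closeds Γ)) (Set.range D) ⟨_, 0, rfl⟩
  by_cases h : derivedSeries Γ N = ⊥
  · exact Or.inl ⟨N, h⟩
  · have heq : derivedSeries Γ (N + 1) = derivedSeries Γ N := by
      have hle : derivedSeries Γ (N + 1) ≤ derivedSeries Γ N := derivedSeries_antitone Γ (Nat.le_succ N)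
      by_contra hne
      exact hN (D (N + 1)) ⟨_, rfl⟩ (lt_of_le_of_ne hle fun e => hne (SetLike.coe_injective (congrArg (fun c : Closeds Γ => (c : Set Γ)) e)))
    obtain ⟨L, hL⟩ := (comm_bounded z C (derivedSeries Γ N) (derivedSeries Γ N) (hcl N) (hcl N)).2
    rw [← derivedSeries_succ, heq] at hL
    exact Or.inr ⟨N, L, h, hcl N, hL⟩

/-- Either the lower central series vanishes or a nontrivial term of it is stable with bounded width. -/
theorem exists_witness_lower :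
    (∃ n, Subgroup.lowerCentralSeries (⊤ : Subgroup Γ) n = ⊥) ∨ ∃ (n L : ℕ),
      Subgroup.lowerCentralSeries (⊤ : Subgroup Γ) n ≠ ⊥ ∧
      IsClosed (Subgroup.lowerCentralSeries (⊤ : Subgroup Γ) n : Set Γ) ∧
      (Subgroup.lowerCentralSeries (⊤ : Subgroup Γ) n : Set Γ) ⊆
        (Set.image2 (fun a b : Γ => ⁅a, b⁆) Set.univ (Subgroup.lowerCentralSeries (⊤ : Subgroup Γ) n : Set Γ)) ^ L := by
  let LC := fun n => Subgroup.lowerCentralSeries (⊤ : Subgroup Γ) n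
  have hnorm : ∀ n, (LC n).Normal := fun n => by
    induction n with
    | zero => exact inferInstanceAs (⊤ : Subgroup Γ).Normal
    | succ n ih => exact Subgroup.commutator_normal _ _
  have hcl : ∀ n, IsClosed (LC n : Set Γ) := fun n => by
    induction n with
    | zero => simp [LC, Subgroup.lowerCentralSeries_zero]
    | succ n ih =>
      show IsClosed ((⁅LC n, ⊤⁆ : Subgroup Γ) : Set Γ)
      rw [Subgroup.commutator_comm]
      have := hnorm n
      exact (comm_bounded z C ⊤ (LC n) (by simp) ih).1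
  let D : ℕ → Closeds Γ := fun n => ⟨LC n, hcl n⟩
  obtain ⟨_, ⟨N, rfl⟩, hN⟩ := WellFounded.has_min (wellFounded_lt (α := Closeds Γ)) (Set.range D) ⟨_, 0, rfl⟩
  by_cases h : LC N = ⊥
  · exact Or.inl ⟨N, h⟩
  · have := hnorm N
    have heq : LC (N + 1) = LC N := by
      have hle : LC (N + 1) ≤ LC N := Subgroup.commutator_le_left _ _
      by_contra hne
      exact hN (D (N + 1)) ⟨_, rfl⟩ (lt_of_le_of_ne hle fun e => hne (SetLike.coe_injective (congrArg (fun c : Closeds Γ => (c : Set Γ)) e)))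
    obtain ⟨L, hL⟩ := (comm_bounded z C ⊤ (LC N) (by simp) (hcl N)).2
    rw [Subgroup.commutator_comm, show ⁅LC N, (⊤ : Subgroup Γ)⁆ = LC (N + 1) from rfl, heq, Subgroup.coe_top] at hL
    exact Or.inr ⟨N, L, h, hcl N, hL⟩

end Groth.Agent.Lib.Solv
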