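import Groth.Agent.Lib.Solv.Abstract

/-!
The derived and the lower central series, treated at once.
-/

set_option autoImplicit false

universe u v

open scoped commutatorElement Pointwise

namespace Groth.Agent.Lib.Solv

variable {Γ : Type u} [Group Γ] {Γ' : Type v} [Group Γ']

/-- The derived series for `true`, the lower central series for `false`. -/
def ser : Bool → ∀ (Γ : Type u) [Group Γ], ℕ → Subgroup Γ
  | true, Γ, _, n => derivedSeries Γ n
  | false, Γ, _, n => Subgroup.lowerCentralSeries (⊤ : Subgroup Γ) n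

/-- The left argument of the commutators defining the next term. -/
def side : Bool → Set Γ → Set Γ
  | true, X => X
  | false, _ => Set.univ

/-- The commutators defining the next term. -/
def cset (b : Bool) (X : Set Γ) : Set Γ := Set.image2 (fun x y => ⁅x, y⁆) (side b X) X

theorem ser_zero (b : Bool) : ser b Γ 0 = ⊤ := by
  cases b
  · exact Subgroup.lowerCentralSeries_zero _
  · exact derivedSeries_zero Γ

theorem ser_antitone (b : Bool) {m n : ℕ} (h : m ≤ n) : ser b Γ n ≤ ser b Γ m := by
  cases b
  · exact Subgroup.lowerCentralSeries_antitone _ h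
  · exact derivedSeries_antitone Γ h

theorem cset_ser_subset (b : Bool) (n : ℕ) {X : Set Γ} (h : X ⊆ ser b Γ n) : cset b X ⊆ ser b Γ (n + 1) := by
  rintro _ ⟨x, hx, y, hy, rfl⟩
  cases b
  · show ⁅x, y⁆ ∈ ⁅Subgroup.lowerCentralSeries (⊤ : Subgroup Γ) n, (⊤ : Subgroup Γ)⁆
    rw [Subgroup.commutator_comm]
    exact Subgroup.commutator_mem_commutator (Subgroup.mem_top x) (h hy)
  · show ⁅x, y⁆ ∈ derivedSeries Γ (n + 1)
    rw [derivedSeries_succ]
    exact Subgroup.commutator_mem_commutator (h hx) (h hy)

/-- A set of bounded commutator width over itself lies in every term of the series. -/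
theorem subset_ser (b : Bool) {X : Set Γ} {L : ℕ} (h : X ⊆ cset b X ^ L) : ∀ n, X ⊆ ser b Γ n := fun n => by
  induction n with
  | zero => simp [ser_zero]
  | succ n ih =>
    refine h.trans ?_
    have hc := cset_ser_subset b n ih
    have hpow : ∀ l : ℕ, cset b X ^ l ⊆ (ser b Γ (n + 1) : Set Γ) := fun l => by
      induction l with
      | zero => simp
      | succ l ihl =>
        rw [pow_succ]
        exact Set.mul_subset_iff.2 fun a ha c hc' => Subgroup.mul_mem _ (ihl ha) (hc hc')
    exact hpow L

theorem map_ser_le (b : Bool) (f : Γ →* Γ') (n : ℕ) : (ser b Γ n).map f ≤ ser b Γ' n := by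
  cases b
  · exact Subgroup.lowerCentralSeries.map f n
  · exact map_derivedSeries_le_derivedSeries f n

theorem ser_eq_bot_of_injective (b : Bool) (f : Γ →* Γ') (hf : Function.Injective f) {n : ℕ}
    (h : ser b Γ' n = ⊥) : ser b Γ n = ⊥ :=
  (Subgroup.map_eq_bot_iff_of_injective _ hf).1 (eq_bot_iff.2 ((map_ser_le b f n).trans h.le))

/-- Either the series vanishes or some closed set is nontrivial and stable with bounded width. -/
theorem exists_witness [TopologicalSpace Γ] (z : Zar Γ) (C : ImgClass Γ) [TopologicalSpace.NoetherianSpace Γ]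
    [WellFoundedGT (TopologicalSpace.IrreducibleCloseds Γ)] (b : Bool) :
    (∃ n, ser b Γ n = ⊥) ∨ ∃ X : Set Γ, IsClosed X ∧ ¬ X ⊆ {1} ∧ ∃ L : ℕ, X ⊆ cset b X ^ L := by
  cases b
  · refine (exists_witness_lower z C).imp id ?_
    rintro ⟨n, L, hne, hc, hL⟩
    refine ⟨_, hc, fun h => hne (eq_bot_iff.2 fun x hx => h hx), L, ?_⟩
    exact hL
  · refine (exists_witness_derived z C).imp id ?_
    rintro ⟨n, L, hne, hc, hL⟩
    exact ⟨_, hc, fun h => hne (eq_bot_iff.2 fun x hx => h hx), L, hL⟩

end Groth.Agent.Lib.Solv
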