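import Groth.Prelude.Def_Red2
import Groth.Prelude.Def_AGF
import Groth.Agent.S5366
import Groth.Agent.Lib.Solv.Series
import Groth.Agent.Lib.Solv.Witness
import Groth.Agent.Lib.Spectral.Basic
import Mathlib.AlgebraicGeometry.Morphisms.UniversallyOpen

/-!
The locus of solvable (resp. nilpotent) geometric fibres of a group scheme.
-/

set_option autoImplicit false

universe u

open CategoryTheory Limits MonoidalCategory CartesianMonoidalCategory MonObj AlgebraicGeometry
open scoped commutatorElement Pointwise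

namespace Groth.Agent.Lib.Solv

variable {S : Scheme.{u}} (G : Over S) [GrpObj G]

/-- The values of the words of the series. -/
def wVals : Bool → ∀ (Γ : Type u) [Group Γ], ℕ → Set Γ
  | true, Γ, _, n => S5366.dVals Γ n
  | false, Γ, _, n => S5366.lVals Γ n

/-- The points of the base where the `n`-th term of the series of the geometric fibre is nontrivial. -/
def badN (b : Bool) (n : ℕ) : Set S := {s | ser b (Over.mk (Red.geomPt s) ⟶ G) n ≠ ⊥}

theorem ser_eq_bot_iff_wVals (b : Bool) (Γ : Type u) [Group Γ] (n : ℕ) :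
    ser b Γ n = ⊥ ↔ ∀ g ∈ wVals b Γ n, g = 1 := by
  cases b
  · show Subgroup.lowerCentralSeries (⊤ : Subgroup Γ) n = ⊥ ↔ _
    rw [S5366.lowerCentralSeries_eq_closure, Subgroup.closure_eq_bot_iff, Set.subset_singleton_iff]
    exact Iff.rfl
  · show derivedSeries Γ n = ⊥ ↔ _
    rw [S5366.derivedSeries_eq_closure, Subgroup.closure_eq_bot_iff, Set.subset_singleton_iff]
    exact Iff.rfl

/-- The values of the words are the points of a morphism. -/
theorem exists_word (P : MorphismProperty Scheme.{u}) [P.IsStableUnderBaseChange] [P.IsStableUnderComposition]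
    (hP : P G.hom) [LocallyOfFinitePresentation G.hom] [QuasiCompact G.hom] (b : Bool) (n : ℕ) :
    ∃ (W : Over S) (w : W ⟶ G), LocallyOfFinitePresentation W.hom ∧ QuasiCompact W.hom ∧ P W.hom ∧
      ∀ T : Over S, wVals b (T ⟶ G) n = Set.range fun x : T ⟶ W => x ≫ w := by
  induction n with
  | zero =>
    refine ⟨G, 𝟙 G, inferInstance, inferInstance, hP, fun T => ?_⟩
    rw [show (fun x : T ⟶ G => x ≫ 𝟙 G) = id from funext Category.comp_id, Set.range_id]
    cases b <;> rfl
  | succ n ih =>
    obtain ⟨W, w, h1, h2, h3, hW⟩ := ih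
    have key : ∀ (W' : Over S) (w' : W' ⟶ G), LocallyOfFinitePresentation W'.hom → QuasiCompact W'.hom →
        P W'.hom → ∃ (V : Over S) (v : V ⟶ G), LocallyOfFinitePresentation V.hom ∧ QuasiCompact V.hom ∧ P V.hom ∧
          ∀ T : Over S, (Set.range fun x : T ⟶ V => x ≫ v) = Set.image2 (fun a c => ⁅a, c⁆)
            (Set.range fun x : T ⟶ W => x ≫ w) (Set.range fun x : T ⟶ W' => x ≫ w') := by
      intro W' w' h1' h2' h3'
      obtain ⟨hl, hq⟩ := tensor_props (W := W) h1' h2'
      refine ⟨W ⊗ W', ⁅fst W W' ≫ w, snd W W' ≫ w'⁆, hl, hq, ?_, fun T => Set.ext fun g => ⟨?_, ?_⟩⟩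
      · rw [← Over.w (fst W W')]
        exact P.comp_mem _ _ (GrpSch.fst_left_of (P := P) W h3') h3
      · rintro ⟨t, rfl⟩
        exact ⟨_, ⟨t ≫ fst W W', rfl⟩, _, ⟨t ≫ snd W W', rfl⟩,
          by simp [commutatorElement_def, MonObj.comp_mul, GrpObj.comp_inv]⟩
      · rintro ⟨_, ⟨t, rfl⟩, _, ⟨t', rfl⟩, rfl⟩
        exact ⟨lift t t', by simp [commutatorElement_def, MonObj.comp_mul, GrpObj.comp_inv]⟩
    cases b
    · obtain ⟨V, v, g1, g2, g3, hV⟩ := key G (𝟙 G) inferInstance inferInstance hP
      refine ⟨V, v, g1, g2, g3, fun T => ?_⟩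
      rw [hV T, show (fun x : T ⟶ G => x ≫ 𝟙 G) = id from funext Category.comp_id, Set.range_id, ← hW T]
      rfl
    · obtain ⟨V, v, g1, g2, g3, hV⟩ := key W w h1 h2 h3
      refine ⟨V, v, g1, g2, g3, fun T => ?_⟩
      rw [hV T, ← hW T]
      rfl

variable [LocallyOfFinitePresentation G.hom] [QuasiCompact G.hom] [QuasiSeparated G.hom]

omit [QuasiCompact G.hom] in
/-- Nontriviality of a term is detected on the image of a word. -/
theorem ser_ne_bot_iff {b : Bool} {n : ℕ} {W : Over S} {w : W ⟶ G} [LocallyOfFinitePresentation W.hom]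
    [QuasiCompact W.hom] (hW : ∀ T : Over S, wVals b (T ⟶ G) n = Set.range fun x : T ⟶ W => x ≫ w)
    [QuasiCompact G.hom] {Ω : Type u} [Field Ω] [IsAlgClosed Ω] (t : Spec (CommRingCat.of Ω) ⟶ S) :
    ser b (Over.mk t ⟶ G) n ≠ ⊥ ↔
      t (IsLocalRing.closedPoint Ω) ∈ W.hom '' (w.left ⁻¹' (Set.range (unitSec G).left)ᶜ) := by
  rw [Ne, ser_eq_bot_iff_wVals, hW]
  constructor
  · intro h
    by_contra hn
    refine h ?_
    rintro _ ⟨x, rfl⟩
    show x ≫ w = 1
    rw [← pt_mem_unit_iff]
    by_contra hx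
    exact hn ⟨pt x, hx, hom_pt x⟩
  · rintro ⟨z, hz, hzs⟩ h
    obtain ⟨x, hx⟩ := exists_pt_mem t W (isLocallyConstructible_preimage w.left
      (isLocallyConstructible_compl (isLocallyConstructible_range_unit (G := G)))) hz hzs
    exact hx ((pt_mem_unit_iff (x ≫ w)).2 (h _ ⟨x, rfl⟩))

theorem badN_eq {b : Bool} {n : ℕ} {W : Over S} {w : W ⟶ G} [LocallyOfFinitePresentation W.hom]
    [QuasiCompact W.hom] (hW : ∀ T : Over S, wVals b (T ⟶ G) n = Set.range fun x : T ⟶ W => x ≫ w) :
    badN G b n = W.hom '' (w.left ⁻¹' (Set.range (unitSec G).left)ᶜ) := by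
  ext s
  have h := ser_ne_bot_iff G hW (Red.geomPt s)
  rw [geomPt_apply] at h
  exact h

/-- The triviality of a term at a point does not depend on the field-valued point. -/
theorem ser_ne_bot_iff_mem_badN (b : Bool) (n : ℕ) {Ω : Type u} [Field Ω] [IsAlgClosed Ω]
    (t : Spec (CommRingCat.of Ω) ⟶ S) :
    ser b (Over.mk t ⟶ G) n ≠ ⊥ ↔ t (IsLocalRing.closedPoint Ω) ∈ badN G b n := by
  obtain ⟨W, w, _, _, -, hW⟩ := exists_word G (⊤ : MorphismProperty Scheme.{u}) trivial b n
  rw [badN_eq G hW]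
  exact ser_ne_bot_iff G hW t

theorem isLocallyConstructible_badN (b : Bool) (n : ℕ) : Topology.IsLocallyConstructible (badN G b n) := by
  obtain ⟨W, w, _, _, -, hW⟩ := exists_word G (⊤ : MorphismProperty Scheme.{u}) trivial b n
  rw [badN_eq G hW]
  exact W.hom.isLocallyConstructible_image (isLocallyConstructible_preimage w.left
    (isLocallyConstructible_compl (isLocallyConstructible_range_unit (G := G))))

theorem isOpen_badN [Smooth G.hom] [IsSeparated G.hom] (b : Bool) (n : ℕ) : IsOpen (badN G b n) := by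
  obtain ⟨W, w, _, _, h, hW⟩ := exists_word G @Smooth ‹Smooth G.hom› b n
  have := h
  rw [badN_eq G hW]
  have : IsClosedImmersion ((unitSec G).left ≫ G.hom) := by
    rw [Over.w]
    exact inferInstanceAs (IsClosedImmersion (𝟙 S))
  have : IsClosedImmersion (unitSec G).left := IsClosedImmersion.of_comp (unitSec G).left G.hom
  exact W.hom.isOpenMap _ ((unitSec G).left.isClosedEmbedding.isClosed_range.isOpen_compl.preimage w.left.continuous)

/-- Over an affine base, finitely many terms detect everything. -/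
theorem exists_bound_of_isAffine [IsAffine S] (b : Bool) : ∃ N : ℕ, ∀ s, s ∈ badN G b N → ∀ n, s ∈ badN G b n := by
  classical
  have : CompactSpace G.left := QuasiCompact.compactSpace_of_compactSpace G.hom
  have : QuasiSeparatedSpace G.left := quasiSeparatedSpace_of_quasiSeparated G.hom
  have : SpectralSpace S := {}
  let K : Set S := {s | ∀ n, s ∈ badN G b n}
  have hnhd : ∀ s ∈ K, ∃ C : Set S, Topology.IsConstructible C ∧ s ∈ C ∧ C ⊆ K := by
    intro s hs
    let GΩ := Red.geomFibre s G
    have : LocallyOfFiniteType GΩ.hom := GrpSch.bc_hom_of (P := @LocallyOfFiniteType) _ G inferInstance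
    have : QuasiCompact GΩ.hom := GrpSch.bc_hom_of (P := @QuasiCompact) _ G inferInstance
    rcases @exists_witness (Pts GΩ) _ (ptTop GΩ) (zar GΩ) (imgClass GΩ) (noetherianSpace_pts GΩ)
      (wellFoundedGT_pts GΩ) b with ⟨n, hn⟩ | ⟨X, hXc, hX1, L, hXL⟩
    · exact absurd (ser_eq_bot_of_injective b (toPts s G) (toPts_bijective s G).1 hn) (hs n)
    obtain ⟨E, hE, hXE, hEmin⟩ := exists_spread s G X hXc
    -- the sets cut out by the words
    obtain ⟨Cm, hCm, hCmv⟩ := exists_op (G := G) ⁅fst G G, snd G G⁆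
      (show Topology.IsLocallyConstructible (if b then E else Set.univ) by
        split; exacts [hE, Topology.IsLocallyConstructible.univ]) hE
    have hpow : ∀ l : ℕ, ∃ R : Set G.left, Topology.IsLocallyConstructible R ∧
        ∀ (Ω : Type u) [Field Ω] [IsAlgClosed Ω] (t : Spec (CommRingCat.of Ω) ⟶ S),
          {g : Over.mk t ⟶ G | pt g ∈ R} = cset b {g : Over.mk t ⟶ G | pt g ∈ E} ^ l := fun l => by
      induction l with
      | zero =>
        refine ⟨_, isLocallyConstructible_range_unit, fun Ω _ _ t => Set.ext fun g => ?_⟩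
        rw [pow_zero, Set.mem_one]
        exact pt_mem_unit_iff g
      | succ l ih =>
        obtain ⟨R, hR, hRv⟩ := ih
        obtain ⟨R', hR', hR'v⟩ := exists_op (G := G) (fst G G * snd G G) hR hCm
        refine ⟨R', hR', fun Ω _ _ t => ?_⟩
        rw [hR'v Ω t, hRv Ω t, hCmv Ω t, pow_succ, ← Set.image2_mul]
        have e1 : (fun a c : Over.mk t ⟶ G => lift a c ≫ (fst G G * snd G G)) = (· * ·) :=
          funext₂ fun a c => by simp [MonObj.comp_mul]
        have e2 : (fun a c : Over.mk t ⟶ G => lift a c ≫ ⁅fst G G, snd G G⁆) = fun a c => ⁅a, c⁆ :=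
          funext₂ fun a c => by simp [commutatorElement_def, MonObj.comp_mul, GrpObj.comp_inv]
        rw [e1, e2]
        cases b <;> rfl
    obtain ⟨R, hR, hRv⟩ := hpow L
    -- the witness transported
    let X' : Set (Over.mk (Red.geomPt s) ⟶ G) := toPts s G ⁻¹' X
    have himg : toPts s G '' X' = X := Set.image_preimage_eq X (toPts_bijective s G).2
    have hX' : X' ⊆ cset b X' ^ L := by
      refine (Set.image_subset_image_iff (toPts_bijective s G).1).1 ?_
      rw [himg, Set.image_pow]
      refine hXL.trans (Set.pow_subset_pow_left ?_)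
      rw [cset, cset, Set.image_image2_distrib fun x y => map_commutatorElement (toPts s G) x y, himg]
      refine Set.image2_subset ?_ subset_rfl
      cases b
      · exact (Set.image_univ_of_surjective (toPts_bijective s G).2).ge
      · exact himg.ge
    have hXR : ∀ g : Over.mk (Red.geomPt s) ⟶ G, toPts s G g ∈ X → pt g ∈ R := fun g hg => by
      show g ∈ {g : Over.mk (Red.geomPt s) ⟶ G | pt g ∈ R}
      rw [hRv]
      refine Set.pow_subset_pow_left (Set.image2_subset ?_ ?_) (hX' hg)
      · cases b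
        · exact subset_rfl
        · exact fun a ha => hXE a ha
      · exact fun a ha => hXE a ha
    have hER := hEmin R hR hXR
    let U₁ : Set G.left := E ∩ (Set.range (unitSec G).left)ᶜ
    let U₂ : Set G.left := E ∩ Rᶜ
    have hU₁ : Topology.IsLocallyConstructible U₁ :=
      hE.inter (isLocallyConstructible_compl isLocallyConstructible_range_unit)
    have hU₂ : Topology.IsLocallyConstructible U₂ := hE.inter (isLocallyConstructible_compl hR)
    refine ⟨G.hom '' U₁ ∩ (G.hom '' U₂)ᶜ, (G.hom.isConstructible_image hU₁.isConstructible).inter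
      (G.hom.isConstructible_image hU₂.isConstructible).compl, ⟨?_, ?_⟩, ?_⟩
    · obtain ⟨v, hv, hv1⟩ := Set.not_subset.1 hX1
      obtain ⟨g, rfl⟩ := (toPts_bijective s G).2 v
      refine ⟨pt g, ⟨hXE g hv, fun h => hv1 ?_⟩, (hom_pt g).trans (geomPt_apply s)⟩
      rw [(pt_mem_unit_iff g).1 h, map_one]
      exact rfl
    · rintro ⟨z, hz, hzs⟩
      obtain ⟨g, hg⟩ := exists_pt_mem (Red.geomPt s) G hU₂ hz (hzs.trans (geomPt_apply s).symm)
      exact hg.2 (hER g hg.1)
    · rintro s' ⟨⟨z, hz, hzs⟩, hU⟩ n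
      obtain ⟨g, hg⟩ := exists_pt_mem (Red.geomPt s') G hU₁ hz (hzs.trans (geomPt_apply s').symm)
      show ser b _ n ≠ ⊥
      intro hbot
      have hsub : {g : Over.mk (Red.geomPt s') ⟶ G | pt g ∈ E} ⊆
          cset b {g : Over.mk (Red.geomPt s') ⟶ G | pt g ∈ E} ^ L := fun a ha => by
        rw [← hRv]
        by_contra haR
        exact hU ⟨pt a, ⟨ha, haR⟩, (hom_pt a).trans (geomPt_apply s')⟩
      have := subset_ser b hsub n hg.1
      rw [hbot, SetLike.mem_coe, Subgroup.mem_bot] at this
      exact hg.2 ((pt_mem_unit_iff g).2 this)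
  have hK : @IsClosed S (constructibleTopology S) Kᶜ := by
    refine (@isClosed_compl_iff S (constructibleTopology S) K).2 ?_
    refine (@isOpen_iff_forall_mem_open S (constructibleTopology S) K).2 fun s hs => ?_
    obtain ⟨C, hC, hsC, hCK⟩ := hnhd s hs
    exact ⟨C, hCK, (Spectral.Basic.isClopen_cons_of_isConstructible hC).2, hsC⟩
  obtain ⟨T, hT⟩ := @IsCompact.elim_finite_subcover S (constructibleTopology S) Kᶜ _
    (@IsClosed.isCompact S (constructibleTopology S) Kᶜ Spectral.Basic.compactSpace_cons hK)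
    (fun n => (badN G b n)ᶜ)
    (fun n => (Spectral.Basic.isClopen_cons_of_isConstructible (isLocallyConstructible_badN G b n).isConstructible.compl).2)
    (fun s hs => by
      obtain ⟨n, hn⟩ := not_forall.1 hs
      exact Set.mem_iUnion.2 ⟨n, hn⟩)
  refine ⟨T.sup id, fun s hs => by_contra fun hsK => ?_⟩
  obtain ⟨n, hn, hsn⟩ := Set.mem_iUnion₂.1 (hT hsK)
  exact hsn fun hbot => hs (eq_bot_iff.2 ((ser_antitone b (Finset.le_sup (f := id) hn)).trans hbot.le))

/-- Near every point finitely many terms detect everything. -/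
theorem exists_bound (b : Bool) (V : S.affineOpens) :
    ∃ N : ℕ, ∀ s ∈ V.1, s ∈ badN G b N → ∀ n, s ∈ badN G b n := by
  have : IsAffine (V.1 : Scheme.{u}) := V.2
  let G' := Red.bc V.1.ι G
  have : LocallyOfFinitePresentation G'.hom := GrpSch.bc_hom_of (P := @LocallyOfFinitePresentation) _ G inferInstance
  have : QuasiCompact G'.hom := GrpSch.bc_hom_of (P := @QuasiCompact) _ G inferInstance
  have : QuasiSeparated G'.hom := GrpSch.bc_hom_of (P := @QuasiSeparated) _ G inferInstance
  obtain ⟨N, hN⟩ := exists_bound_of_isAffine G' b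
  have key : ∀ (v : (V.1 : Scheme.{u})) (n : ℕ), v ∈ badN G' b n ↔ V.1.ι v ∈ badN G b n := fun v n => by
    have h := ser_ne_bot_iff_mem_badN G b n (Red.geomPt v ≫ V.1.ι)
    have hx : (Red.geomPt v ≫ V.1.ι) (IsLocalRing.closedPoint _) = V.1.ι v :=
      congrArg V.1.ι (geomPt_apply v)
    refine Iff.trans ?_ (h.trans (Iff.of_eq (congrArg (· ∈ badN G b n) hx)))
    let e : (Over.mk (Red.geomPt v ≫ V.1.ι) ⟶ G) ≃* (Over.mk (Red.geomPt v) ⟶ G') :=
      MulEquiv.ofBijective _ (toBC_bijective V.1.ι rfl G)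
    exact ⟨fun hv hb => hv (ser_eq_bot_of_injective b e.symm.toMonoidHom e.symm.injective hb),
      fun hv hb => hv (ser_eq_bot_of_injective b e.toMonoidHom e.injective hb)⟩
  exact ⟨N, fun s hs hsN n => (key ⟨s, hs⟩ n).1 (hN _ ((key ⟨s, hs⟩ N).2 hsN) n)⟩

/-- The locus where the series terminates. -/
def good (b : Bool) : Set S := {s | ∃ n, s ∉ badN G b n}

theorem isLocallyConstructible_good (b : Bool) : Topology.IsLocallyConstructible (good G b) := by
  refine Topology.IsLocallyConstructible.of_isOpenCover (U := fun V : S.affineOpens => V.1) ?_ fun V => ?_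
  · exact iSup_affineOpens_eq_top S
  · obtain ⟨N, hN⟩ := exists_bound G b V
    have e : (Subtype.val ⁻¹' good G b : Set V.1) = Subtype.val ⁻¹' (badN G b N)ᶜ :=
      Set.ext fun ⟨s, hs⟩ => ⟨fun ⟨n, hn⟩ h => hn (hN s hs h n), fun h => ⟨N, h⟩⟩
    exact e ▸ (isLocallyConstructible_compl (isLocallyConstructible_badN G b N)).preimage_of_isOpenEmbedding
      V.1.2.isOpenEmbedding_subtypeVal

theorem isClosed_good [Smooth G.hom] [IsSeparated G.hom] (b : Bool) : IsClosed (good G b) := by
  rw [TopologicalSpace.IsOpenCover.isClosed_iff_coe_preimage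
    (U := fun V : S.affineOpens => V.1) (iSup_affineOpens_eq_top S)]
  intro V
  obtain ⟨N, hN⟩ := exists_bound G b V
  have e : (Subtype.val ⁻¹' good G b : Set V.1) = Subtype.val ⁻¹' (badN G b N)ᶜ :=
    Set.ext fun ⟨s, hs⟩ => ⟨fun ⟨n, hn⟩ h => hn (hN s hs h n), fun h => ⟨N, h⟩⟩
  exact e ▸ (isOpen_badN G b N).isClosed_compl.preimage continuous_subtype_val

omit [LocallyOfFinitePresentation G.hom] [QuasiCompact G.hom] [QuasiSeparated G.hom] in
/-- Triviality of a term of the series of all point groups of the geometric fibre. -/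
theorem forall_ser_iff [QuasiCompact G.hom] (s : S) (hsm : Smooth (G.hom.fiberToSpecResidueField s)) (b : Bool)
    (n : ℕ) : (∀ T : Over _, ser b (T ⟶ Red.geomFibre s G) n = ⊥) ↔ s ∉ badN G b n := by
  let Ω := AlgebraicClosure (S.residueField s)
  let GΩ := Red.geomFibre s G
  have : Smooth GΩ.hom := MorphismProperty.of_isPullback (isPullback_toFiber s G) hsm
  have : QuasiCompact GΩ.hom := GrpSch.bc_hom_of (P := @QuasiCompact) _ G inferInstance
  let T₀ : Over (Spec (CommRingCat.of Ω)) := Over.mk (Spec.map (CommRingCat.ofHom (algebraMap Ω Ω)))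
  have hT₀ : (∀ T : Over _, ser b (T ⟶ GΩ) n = ⊥) ↔ ser b (T₀ ⟶ GΩ) n = ⊥ := by
    cases b
    · exact (S5366.result Ω GΩ Ω n).2
    · exact (S5366.result Ω GΩ Ω n).1
  have hid : Spec.map (CommRingCat.ofHom (algebraMap Ω Ω)) = 𝟙 _ := Spec.map_id _
  constructor
  · intro h hb
    exact hb (ser_eq_bot_of_injective b (toPts s G) (toPts_bijective s G).1 (h _))
  · intro h
    rw [hT₀]
    have hbot : ser b (Over.mk (Red.geomPt s) ⟶ G) n = ⊥ := not_not.1 h
    let e := MulEquiv.ofBijective _ (toPts_bijective s G)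
    have h1 : ser b (Pts GΩ) n = ⊥ := ser_eq_bot_of_injective b e.symm.toMonoidHom e.symm.injective hbot
    let i : 𝟙_ (Over (Spec (CommRingCat.of Ω))) ⟶ T₀ := Over.homMk (𝟙 _) (by
      show 𝟙 _ ≫ Spec.map _ = 𝟙 _
      rw [hid, Category.comp_id])
    let f : (T₀ ⟶ GΩ) →* Pts GΩ :=
      { toFun := fun g => i ≫ g, map_one' := MonObj.comp_one i, map_mul' := MonObj.comp_mul i }
    refine ser_eq_bot_of_injective b f (fun g g' hg => Over.OverMorphism.ext ?_) h1
    have := congrArg CommaMorphism.left hg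
    exact (Category.id_comp _).symm.trans (this.trans (Category.id_comp _))

omit [LocallyOfFinitePresentation G.hom] [QuasiCompact G.hom] [QuasiSeparated G.hom] in
theorem setOf_isSolvableGrp [QuasiCompact G.hom] (hsm : ∀ s : S, Smooth (G.hom.fiberToSpecResidueField s)) :
    {s : S | Red.IsSolvableGrp (Red.geomFibre s G)} = good G true := by
  ext s
  exact exists_congr fun n => forall_ser_iff G s (hsm s) true n

omit [LocallyOfFinitePresentation G.hom] [QuasiCompact G.hom] [QuasiSeparated G.hom] in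
theorem setOf_isNilpotentGrp [QuasiCompact G.hom] (hsm : ∀ s : S, Smooth (G.hom.fiberToSpecResidueField s)) :
    {s : S | AGF.IsNilpotentGrp (Red.geomFibre s G)} = good G false := by
  ext s
  refine exists_congr fun n => Iff.trans ?_ (forall_ser_iff G s (hsm s) false n)
  exact forall_congr' fun T => Subgroup.lowerCentralSeries_eq_bot_iff_upperCentralSeries_eq_top.symm

end Groth.Agent.Lib.Solv
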